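import Cfsg.Agent.Lib.Chevalley.Natural.Hom
import Cfsg.Agent.Lib.Chevalley.Types.SimpleD4
import Cfsg.Agent.Lib.Chevalley.Types.StCerts
import Cfsg.Agent.Lib.Classical.OrthForms

/-! The natural representation of type D4. -/

set_option autoImplicit false

namespace Cfsg.Agent.Chevalley.Natural.TypeD4

open Cfsg.Lie Cfsg.Agent.Classical.OrthForms Cfsg.Agent.Forms.PlusStd

/-- The data. -/
def data : RData (Fin 4 ⊕ Fin 4) where
  idx := [Sum.inl 0, Sum.inl 1, Sum.inl 2, Sum.inl 3, Sum.inr 0, Sum.inr 1, Sum.inr 2, Sum.inr 3]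
  op := Sum.swap
  q := fun _ => 0
  rd := fun r => ([(Sum.inr 0, Sum.inr 1, -1), (Sum.inr 0, Sum.inr 2, 1), (Sum.inr 0, Sum.inl 3, -1),
    (Sum.inr 0, Sum.inr 3, -1), (Sum.inr 0, Sum.inl 2, -1), (Sum.inr 0, Sum.inl 1, -1),
    (Sum.inr 1, Sum.inr 2, 1), (Sum.inr 1, Sum.inl 3, -1), (Sum.inr 1, Sum.inr 3, -1),
    (Sum.inr 1, Sum.inl 2, -1), (Sum.inr 2, Sum.inl 3, -1), (Sum.inr 2, Sum.inr 3, -1),
    (Sum.inl 2, Sum.inl 3, 1), (Sum.inl 2, Sum.inr 3, 1), (Sum.inl 1, Sum.inr 2, 1),
    (Sum.inl 1, Sum.inl 3, 1), (Sum.inl 1, Sum.inr 3, 1), (Sum.inl 1, Sum.inl 2, -1),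
    (Sum.inl 0, Sum.inr 1, 1), (Sum.inl 0, Sum.inr 2, 1), (Sum.inl 0, Sum.inl 3, 1),
    (Sum.inl 0, Sum.inr 3, 1), (Sum.inl 0, Sum.inl 2, -1), (Sum.inl 0, Sum.inl 1, 1)] :
    List ((Fin 4 ⊕ Fin 4) × (Fin 4 ⊕ Fin 4) × ℤ)).getD r (Sum.inl 0, Sum.inl 0, 0)

theorem roots_ok : data.rootsOk 24 = true := by decide +kernel
theorem comm_ok : data.commOk chevD4 = true := by decide +kernel
theorem toral_ok : data.toralOk chevD4 = true := by decide +kernel
theorem cover_ok : data.coverOk 24 = true := by decide +kernel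
theorem single_ok : singleOk chevD4 = true := by decide +kernel
theorem nc_ok : data.ncOk 18 14 (Sum.inl 0) (Sum.inl 2) = true := by decide +kernel
theorem good_ok : goodList data.op data.q Finset.univ [Sum.inl 3, Sum.inl 2, Sum.inl 1] = true := by
  decide +kernel
theorem rest_ok : rest data.op [Sum.inl 3, Sum.inl 2, Sum.inl 1] =
    ({Sum.inl 0, data.op (Sum.inl 0)} : Finset (Fin 4 ⊕ Fin 4)) := by decide +kernel
theorem sq_ok : data.idx.all (fun k => decide (data.hExp (data.rd 23).1 (data.rd 23).2.1 k +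
    data.hExp (data.rd 18).1 (data.rd 18).2.1 k = 2 * data.pairExp (Sum.inl 0) k)) = true := by
  decide +kernel

theorem certs : Certs data chevD4 :=
  ⟨by decide, fun k => by rcases k with i | i <;> fin_cases i <;> simp [data], roots_ok, comm_ok, toral_ok, cover_ok⟩

theorem split (F : Type*) [Field F] : Split (plusQ F 4) data.op data.q where
  op_op a := by rcases a with i | i <;> rfl
  q01 _ := Or.inl rfl
  op_fix a := by rcases a with i | i <;> simp [data]
  uniq a b h := by simp [data] at h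
  hQ a := by
    rcases a with i | i <;> simp [data, plusQ_apply, Cfsg.quadFormPlus, Pi.single_apply]
  hB a b := by
    rw [plusQ_polar]
    rcases a with i | i <;> rcases b with j | j <;> simp [data, Pi.single_apply]

theorem nonempty_iso (F : Type*) [Field F] :
    Nonempty (chevD4.group F ≃* Cfsg.POmega F (Cfsg.quadFormPlus 4 F)) := by
  have h := split F
  have hC := Types.D4.certified
  have hlt : ∀ r < chevD4.nroots, ∀ s < chevD4.nroots, ∀ c ∈ chevD4.commTerms r s,
      c.1 < chevD4.nroots := fun r hr s hs => Relations.commTerms_lt hC hr hs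
  rw [← plusQ_eq]
  refine nonempty_pomega h certs hC ⟨⟨_, Types.CoefD4.coef_ok⟩, ⟨_, Types.StCerts.conj_D4⟩⟩
    (Types.SimpleD4.simple_group F).1 (le_antisymm ?_
      (rootGroup_le_of_single h certs hlt single_ok))
    (r := 18) (s := 14) (by decide) (by decide) nc_ok
  have ha : data.q (Sum.inl 0) = 0 := rfl
  refine h.commutator_le good_ok (h.mono_swp ha one_ne_zero)
    (Cfsg.Agent.Forms.Reflections.reflect_sq _) (fun g hg => ?_) fun b t hb ht => ?_
  · rw [rest_ok] at hg
    exact h.base_plane ha (fun k hk => by simp [data] at hk) hg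
  · exact h.swp_dia_commutator ha
      (fun u hu => dia_sq_mem h certs hlt ha (r := 23) (s := 18) (by decide) (by decide) sq_ok hu)
      b t hb ht

end Cfsg.Agent.Chevalley.Natural.TypeD4
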