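import Cfsg.Agent.Lib.Chevalley.Natural.SplitOrth

/-!
The derived group of the isometry group of a split form is generated by root elements.
-/

set_option autoImplicit false
set_option linter.unusedSectionVars false

open scoped Matrix

namespace Cfsg.Agent.Chevalley.Natural

open Cfsg.Agent.Classical.Orth Cfsg.Agent.Forms Cfsg.Agent.Forms.QuadStd
  Cfsg.Agent.Forms.Reflections
open scoped commutatorElement

variable {F : Type*} [Field F] {ι : Type} [Fintype ι] [DecidableEq ι]
variable {Q : QuadraticForm F (ι → F)} {op : ι → ι} {q : ι → ℕ}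

local notation "Iso" => Cfsg.isometryGroup F (DFunLike.coe Q)
local notation "B" => QuadraticMap.polar Q

/-- The set left after deleting the pairs of a list. -/
def rest (op : ι → ι) (L : List ι) : Finset ι :=
  L.foldl (fun S a => (S.erase a).erase (op a)) Finset.univ

namespace Split

variable (h : Split Q op q)
include h

theorem act_dia_all {a : ι} (ha : q a = 0) {t : F} (ht : t ≠ 0) (k : ι) :
    act (dia Q op a t) (bv k) =
      (if k = a then t else if k = op a then t⁻¹ else 1) • bv k := by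
  obtain ⟨e1, e2, e3⟩ := h.act_dia ha ht
  split_ifs with h1 h2
  · subst h1; exact e1
  · subst h2; exact e2
  · rw [e3 k h1 h2, one_smul]

theorem dia_comm {a b : ι} (ha : q a = 0) (hb : q b = 0) {t u : F} (ht : t ≠ 0) (hu : u ≠ 0) :
    Commute (dia Q op a t) (dia Q op b u) := h.ext_bv fun k => by
  rw [act_mul, act_mul, h.act_dia_all hb hu k, map_smul, h.act_dia_all ha ht k, map_smul,
    h.act_dia_all hb hu k, smul_smul, smul_smul, mul_comm]

theorem dia_mul {a : ι} (ha : q a = 0) {t u : F} (ht : t ≠ 0) (hu : u ≠ 0) :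
    dia Q op a t * dia Q op a u = dia Q op a (t * u) := h.ext_bv fun k => by
  rw [act_mul, h.act_dia_all ha hu k, map_smul, h.act_dia_all ha ht k,
    h.act_dia_all ha (mul_ne_zero ht hu) k, smul_smul]
  congr 1
  split_ifs <;> field_simp

theorem dia_one {a : ι} (ha : q a = 0) : dia Q op a (1 : F) = 1 := h.ext_bv fun k => by
  rw [h.act_dia_all ha one_ne_zero k, act_one]
  split_ifs <;> simp

theorem dia_inv {a : ι} (ha : q a = 0) {t : F} (ht : t ≠ 0) :
    (dia Q op a t)⁻¹ = dia Q op a t⁻¹ :=
  inv_eq_of_mul_eq_one_right (by rw [h.dia_mul ha ht (inv_ne_zero ht), mul_inv_cancel₀ ht, h.dia_one ha])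

/-- The derived group is contained in the root group. -/
theorem commutator_le {L : List ι} (hL : goodList op q Finset.univ L = true) {τ : Iso}
    (hτ : Mono τ) (hτ2 : τ * τ = 1)
    (hbase : ∀ g ∈ fixOut Q (rest op L),
      g ∈ Subgroup.closure ({g | ∃ (a : ι) (t : F), q a = 0 ∧ t ≠ 0 ∧ g = dia Q op a t} ∪ {τ}))
    (hcomm : ∀ (a : ι) (t : F), q a = 0 → t ≠ 0 → ⁅τ, dia Q op a t⁆ ∈ rootGroup h) :
    commutator Iso ≤ rootGroup h := by
  obtain ⟨X, hX⟩ : ∃ X : Set Iso, X = {g | ∃ (a : ι) (t : F), q a = 0 ∧ t ≠ 0 ∧ g = dia Q op a t} ∪ {τ} :=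
    ⟨_, rfl⟩
  rw [← hX] at hbase
  have hgen : rootGroup h ⊔ Subgroup.closure X = ⊤ := by
    rw [eq_top_iff]
    intro g _
    obtain ⟨x, hx, hxg⟩ := h.reduce_aux L Finset.univ (fun k _ => Finset.mem_univ _)
      (fun k _ => Finset.mem_univ _) hL g (fun k hk => absurd (Finset.mem_univ k) hk)
    have hx' : x ∈ rootGroup h ⊔ Subgroup.closure X :=
      sup_le_sup_left (Subgroup.closure_mono (by rw [hX]; exact Set.subset_union_left)) _ hx
    have := mul_mem (inv_mem hx') (Subgroup.mem_sup_right (hbase _ hxg) :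
      x * g ∈ rootGroup h ⊔ Subgroup.closure X)
    rwa [inv_mul_cancel_left] at this
  have hXn : ∀ g ∈ X, g ∈ Subgroup.normalizer (rootGroup h : Set Iso) := by
    rw [hX]
    rintro g (⟨a, t, ha, ht, rfl⟩ | rfl)
    · exact h.mem_normalizer (h.mono_dia ha ht) (by rw [h.dia_inv ha ht]; exact h.mono_dia ha (inv_ne_zero ht))
    · exact h.mem_normalizer hτ (by rw [inv_eq_of_mul_eq_one_right hτ2]; exact hτ)
  haveI hN : (rootGroup h).Normal := by
    rw [← Subgroup.normalizer_eq_top_iff, eq_top_iff, ← hgen]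
    exact sup_le Subgroup.le_normalizer ((Subgroup.closure_le _).2 hXn)
  have hcl : Subgroup.closure (QuotientGroup.mk' (rootGroup h) '' X) = ⊤ := by
    rw [← MonoidHom.map_closure, ← top_le_iff]
    intro y _
    obtain ⟨g, rfl⟩ := QuotientGroup.mk'_surjective (rootGroup h) y
    have hg : g ∈ rootGroup h ⊔ Subgroup.closure X := by rw [hgen]; trivial
    obtain ⟨k, hk, x, hx, rfl⟩ := Subgroup.mem_sup_of_normal_left.1 hg
    refine ⟨x, hx, ?_⟩
    rw [map_mul, show QuotientGroup.mk' (rootGroup h) k = 1 from (QuotientGroup.eq_one_iff k).2 hk,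
      one_mul]
  have hc : ∀ x ∈ X, ∀ y ∈ X, ⁅x, y⁆ ∈ rootGroup h := by
    rw [hX]
    rintro x (⟨a, t, ha, ht, rfl⟩ | rfl) y (⟨b, u, hb, hu, rfl⟩ | rfl)
    · rw [commutatorElement_eq_one_iff_commute.2 (h.dia_comm ha hb ht hu)]; exact one_mem _
    · rw [← commutatorElement_inv]; exact inv_mem (hcomm a t ha ht)
    · exact hcomm b u hb hu
    · rw [commutatorElement_self]; exact one_mem _
  have hcomm' : ∀ x ∈ QuotientGroup.mk' (rootGroup h) '' X,
      ∀ y ∈ QuotientGroup.mk' (rootGroup h) '' X, x * y = y * x := by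
    rintro _ ⟨x, hx, rfl⟩ _ ⟨y, hy, rfl⟩
    rw [← commutatorElement_eq_one_iff_mul_comm, ← map_commutatorElement]
    exact (QuotientGroup.eq_one_iff _).2 (hc x hx y hy)
  rw [commutator_eq_closure, Subgroup.closure_le]
  rintro _ ⟨a, b, rfl⟩
  show ⁅a, b⁆ ∈ rootGroup h
  rw [← QuotientGroup.eq_one_iff]
  show QuotientGroup.mk' (rootGroup h) ⁅a, b⁆ = 1
  rw [map_commutatorElement, commutatorElement_eq_one_iff_mul_comm]
  have hK := Subgroup.isMulCommutative_closure hcomm'
  exact congrArg Subtype.val (hK.is_comm.comm ⟨_, hcl ▸ Subgroup.mem_top _⟩ ⟨_, hcl ▸ Subgroup.mem_top _⟩)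

theorem supp_two {a : ι} (ha : q a = 0) {x : ι → F} (hx : ∀ k ∉ ({a, op a} : Finset ι), x k = 0) :
    x = x a • bv a + x (op a) • bv (op a) := by
  funext i
  by_cases h1 : i = a
  · subst h1; simp [bv, (h.op_ne ha).symm]
  by_cases h2 : i = op a
  · subst h2; simp [bv, h.op_ne ha]
  simp [bv, h1, h2, hx i (by simp [h1, h2])]

/-- The last step when one hyperbolic plane is left. -/
theorem base_plane {a : ι} (ha : q a = 0) (hfix : ∀ k, q k = 1 → k ∈ ({a, op a} : Finset ι))
    {g : Iso} (hg : g ∈ fixOut Q {a, op a}) :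
    g ∈ Subgroup.closure ({g | ∃ (a : ι) (t : F), q a = 0 ∧ t ≠ 0 ∧ g = dia Q op a t} ∪ {swp Q op a 1}) := by
  have hS : ∀ k ∈ ({a, op a} : Finset ι), op k ∈ ({a, op a} : Finset ι) := by
    intro k hk
    simp only [Finset.mem_insert, Finset.mem_singleton] at hk ⊢
    rcases hk with rfl | rfl
    · exact Or.inr rfl
    · exact Or.inl (h.op_op a)
  have key : ∀ g' ∈ fixOut Q ({a, op a} : Finset ι), act g' (bv a) a ≠ 0 →
      g' ∈ Subgroup.closure ({g | ∃ (a : ι) (t : F), q a = 0 ∧ t ≠ 0 ∧ g = dia Q op a t} ∪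
        {swp Q op a 1}) := by
    intro g' hg' hne
    have e1 := h.supp_two ha (h.supp_act hS hfix hg' (x := bv a) fun k hk => by
      simp only [Finset.mem_insert, Finset.mem_singleton, not_or] at hk
      simp [bv, hk.1])
    have e2 := h.supp_two ha (h.supp_act hS hfix hg' (x := bv (op a)) fun k hk => by
      simp only [Finset.mem_insert, Finset.mem_singleton, not_or] at hk
      simp [bv, hk.2])
    obtain ⟨x, hx⟩ : ∃ x, x = act g' (bv a) a := ⟨_, rfl⟩
    obtain ⟨y, hy⟩ : ∃ y, y = act g' (bv a) (op a) := ⟨_, rfl⟩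
    obtain ⟨x', hx'⟩ : ∃ x', x' = act g' (bv (op a)) a := ⟨_, rfl⟩
    obtain ⟨y', hy'⟩ : ∃ y', y' = act g' (bv (op a)) (op a) := ⟨_, rfl⟩
    rw [← hx, ← hy] at e1
    rw [← hx', ← hy'] at e2
    rw [← hx] at hne
    have h1 : x * y = 0 := by
      rw [← pair_value (h.pair ha) x y, ← e1, act_map, h.Q_bv ha]
    have h2 : x' * y' = 0 := by
      rw [← pair_value (h.pair ha) x' y', ← e2, act_map, h.Q_bv (h.q_op ha)]
    have h3 : x * y' + y * x' = 1 := by
      have h4 := act_polar g' (bv a) (bv (op a))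
      rw [e1, e2, h.B_op ha] at h4
      simp only [QuadraticMap.polar_add_left, QuadraticMap.polar_add_right,
        QuadraticMap.polar_smul_left, QuadraticMap.polar_smul_right, h.B_op ha, (h.pair ha).hvu,
        polar_self_zero (h.Q_bv ha), polar_self_zero (h.Q_bv (h.q_op ha)), smul_eq_mul] at h4
      linear_combination h4
    have hy0 : y = 0 := (mul_eq_zero.1 h1).resolve_left hne
    rw [hy0, zero_mul, add_zero] at h3
    have hy'0 : y' = x⁻¹ := eq_inv_of_mul_eq_one_right h3
    have hx'0 : x' = 0 := (mul_eq_zero.1 h2).resolve_right (by rw [hy'0]; exact inv_ne_zero hne)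
    refine Subgroup.subset_closure (Or.inl ⟨a, x, ha, hne, h.ext_bv fun k => ?_⟩)
    rw [h.act_dia_all ha hne k]
    split_ifs with k1 k2
    · subst k1; rw [e1, hy0, zero_smul, add_zero]
    · subst k2; rw [e2, hx'0, hy'0, zero_smul, zero_add]
    · rw [one_smul]; exact hg' k (by simp [k1, k2])
  by_cases hne : act g (bv a) a = 0
  · obtain ⟨e1, e2, e3⟩ := h.act_swp ha (one_ne_zero (α := F))
    have hsw : swp Q op a (1 : F) ∈ fixOut Q ({a, op a} : Finset ι) := fun k hk => by
      simp only [Finset.mem_insert, Finset.mem_singleton, not_or] at hk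
      exact e3 k hk.1 hk.2
    have hd := h.supp_two ha (h.supp_act hS hfix hg (x := bv a) fun k hk => by
      simp only [Finset.mem_insert, Finset.mem_singleton, not_or] at hk
      simp [bv, hk.1])
    rw [hne, zero_smul, zero_add] at hd
    have hyne : act g (bv a) (op a) ≠ 0 := by
      intro e
      rw [e, zero_smul] at hd
      have := congrArg (fun x => act g⁻¹ x a) hd
      simp [Spinor.act_inv_cancel, bv] at this
    have h' := key _ (mul_mem hsw hg) (by
      rw [act_mul, hd, map_smul, e2]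
      simpa [bv] using hyne)
    have := mul_mem (Subgroup.subset_closure (Or.inr rfl) :
      swp Q op a (1 : F) ∈ Subgroup.closure ({g | ∃ (a : ι) (t : F), q a = 0 ∧ t ≠ 0 ∧ g = dia Q op a t} ∪
        {swp Q op a 1})) h'
    rwa [← mul_assoc, show swp Q op a (1 : F) * swp Q op a 1 = 1 from reflect_sq _, one_mul] at this
  · exact key g hg hne

theorem swp_dia_commutator {a : ι} (ha : q a = 0)
    (hsq : ∀ t : F, t ≠ 0 → dia Q op a t * dia Q op a t ∈ rootGroup h) (b : ι) (t : F)
    (hb : q b = 0) (ht : t ≠ 0) : ⁅swp Q op a 1, dia Q op b t⁆ ∈ rootGroup h := by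
  obtain ⟨e1, e2, e3⟩ := h.act_swp ha (one_ne_zero (α := F))
  have hs : (swp Q op a (1 : F))⁻¹ = swp Q op a 1 := inv_eq_of_mul_eq_one_right (reflect_sq _)
  rcases eq_or_ne b a with rfl | h1
  · have key : swp Q op b (1 : F) * dia Q op b t * swp Q op b 1 = dia Q op b t⁻¹ := h.ext_bv fun k => by
      rw [act_mul, act_mul, h.act_dia_all hb (inv_ne_zero ht) k]
      by_cases k1 : k = b
      · subst k1
        rw [e1, map_smul, map_smul, (h.act_dia hb ht).2.1, map_smul, e2, if_pos rfl]
        match_scalars; field_simp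
      by_cases k2 : k = op b
      · subst k2
        rw [e2, map_smul, map_smul, (h.act_dia hb ht).1, map_smul, e1, if_neg k1, if_pos rfl]
        match_scalars; field_simp
      rw [e3 k k1 k2, (h.act_dia hb ht).2.2 k k1 k2, e3 k k1 k2, if_neg k1, if_neg k2, one_smul]
    rw [commutatorElement_def, hs, key, h.dia_inv hb ht]
    exact hsq _ (inv_ne_zero ht)
  rcases eq_or_ne b (op a) with rfl | h2
  · have key : swp Q op a (1 : F) * dia Q op (op a) t * swp Q op a 1 = dia Q op a t := h.ext_bv fun k => by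
      rw [act_mul, act_mul, h.act_dia_all ha ht k]
      obtain ⟨d1, d2, d3⟩ := h.act_dia hb ht
      rw [h.op_op] at d2
      by_cases k1 : k = a
      · subst k1
        rw [e1, map_smul, map_smul, d1, map_smul, e2, if_pos rfl]
        match_scalars; field_simp
      by_cases k2 : k = op a
      · subst k2
        rw [e2, map_smul, map_smul, d2, map_smul, e1, if_neg k1, if_pos rfl]
        match_scalars; field_simp
      rw [e3 k k1 k2, d3 k k2 (by rw [h.op_op]; exact k1), e3 k k1 k2, if_neg k1, if_neg k2, one_smul]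
    have key2 : dia Q op (op a) t⁻¹ = dia Q op a t := h.ext_bv fun k => by
      rw [h.act_dia_all hb (inv_ne_zero ht) k, h.act_dia_all ha ht k, h.op_op]
      by_cases k1 : k = a
      · subst k1; rw [if_neg (h.op_ne ha).symm, if_pos rfl, if_pos rfl, inv_inv]
      by_cases k2 : k = op a
      · subst k2; rw [if_pos rfl, if_neg k1, if_pos rfl]
      rw [if_neg k2, if_neg k1, if_neg k1, if_neg k2]
    rw [commutatorElement_def, hs, key, h.dia_inv hb ht, key2]
    exact hsq _ ht
  · have : Commute (swp Q op a (1 : F)) (dia Q op b t) := h.ext_bv fun k => by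
      obtain ⟨d1, d2, d3⟩ := h.act_dia hb ht
      have n1 : a ≠ b := fun e => h1 e.symm
      have n2 : op a ≠ b := fun e => h2 e.symm
      have n3 : a ≠ op b := fun e => h2 (by rw [e, h.op_op])
      have n4 : op a ≠ op b := fun e => h1 (by
        have := congrArg op e; rw [h.op_op, h.op_op] at this; exact this.symm)
      rw [act_mul, act_mul, h.act_dia_all hb ht k, map_smul]
      by_cases k1 : k = a
      · subst k1
        rw [e1, map_smul, d3 _ n2 n4, if_neg n1, if_neg n3, one_smul]
      by_cases k2 : k = op a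
      · subst k2
        rw [e2, map_smul, d3 _ n1 n3, if_neg n2, if_neg n4, one_smul]
      rw [e3 k k1 k2, h.act_dia_all hb ht k]
    rw [commutatorElement_eq_one_iff_commute.2 this]
    exact one_mem _

/-- The last step when only the anisotropic vector is left. -/
theorem base_line {o : ι} (ho : q o = 1) {g : Iso} (hg : g ∈ fixOut Q {o}) :
    g = 1 ∨ g = reflect Q (bv o) := by
  have hS : ∀ k ∈ ({o} : Finset ι), op k ∈ ({o} : Finset ι) := by
    intro k hk
    rw [Finset.mem_singleton] at hk ⊢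
    rw [hk, (h.op_fix o).2 ho]
  have e : act g (bv o) = act g (bv o) o • bv o := by
    funext i
    by_cases hi : i = o
    · subst hi; simp [bv]
    · simp [bv, hi]
      exact h.supp_act hS (fun k hk => Finset.mem_singleton.2 (h.uniq _ _ hk ho)) hg
        (x := bv o) (fun k hk => by simp [bv, Finset.notMem_singleton.1 hk]) i (by simp [hi])
  obtain ⟨c, hc⟩ : ∃ c, c = act g (bv o) o := ⟨_, rfl⟩
  rw [← hc] at e
  have hcc : c * c = 1 := by
    have := act_map g (bv o)
    rwa [e, map_smul', h.hQ, ho, Nat.cast_one, mul_one] at this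
  rcases mul_self_eq_one_iff.1 hcc with rfl | rfl
  · exact Or.inl (h.ext_bv fun k => by
      rw [act_one]
      by_cases hk : k = o
      · subst hk; rw [e, one_smul]
      · exact hg k (by simp [hk]))
  · refine Or.inr (h.ext_bv fun k => ?_)
    rw [act_reflect, h.hQ, ho, QuadraticMap.polar_comm, h.B_bv, (h.op_fix o).2 ho, ho,
      Nat.cast_one, inv_one, one_mul]
    by_cases hk : k = o
    · subst hk
      rw [e]
      simp only [bv, Pi.single_eq_same]
      module
    · rw [hg k (by simp [hk])]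
      simp [bv, Ne.symm hk]

theorem reflect_dia_comm {o : ι} (ho : q o = 1) {a : ι} (ha : q a = 0) {t : F} (ht : t ≠ 0) :
    Commute (reflect Q (bv o)) (dia Q op a t) := by
  have := Spinor.reflect_conj (dia Q op a t) (bv o)
  rw [(h.act_dia ha ht).2.2 o (fun e => by subst e; omega)
    (fun e => by subst e; rw [h.q_op ha] at ho; omega), mul_inv_eq_iff_eq_mul] at this
  exact this.symm

end Split

end Cfsg.Agent.Chevalley.Natural
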