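import Cfsg.Agent.Lib.Chevalley.Natural.Terms
import Cfsg.Agent.Lib.Chevalley.Natural.SplitOmega
import Cfsg.Agent.Lib.Chevalley.StSteinberg

/-!
A natural orthogonal representation of Steinberg's group from a certificate, and the resulting
isomorphism of the Chevalley group with the projective orthogonal group.
-/

set_option autoImplicit false
set_option linter.unusedSectionVars false

open scoped Matrix

namespace Cfsg.Agent.Chevalley.Natural

open Cfsg.Lie Cfsg.Agent.Classical.Orth Cfsg.Agent.Forms Cfsg.Agent.Forms.QuadStd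
  Cfsg.Agent.Forms.Reflections
open scoped commutatorElement

variable {ι : Type} [DecidableEq ι]

/-- The data of a natural representation. -/
structure RData (ι : Type) where
  idx : List ι
  op : ι → ι
  q : ι → ℕ
  rd : ℕ → ι × ι × ℤ

namespace RData

variable (R : RData ι)

/-- The terms of a root element. -/
def rootT (a b : ι) (z : ℤ) (i j : ℕ) : List (Term ι) :=
  oneL R.idx ++ [⟨i, j, b, R.op a, z⟩, ⟨i, j, a, R.op b, -z * (1 + (R.q b : ℤ))⟩,
    ⟨2 * i, 2 * j, a, R.op a, -(z * z) * (R.q b : ℤ)⟩]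

/-- The terms of a root element of the datum. -/
def xT (r : ℕ) (z : ℤ) (i j : ℕ) : List (Term ι) :=
  R.rootT (R.rd r).1 (R.rd r).2.1 ((R.rd r).2.2 * z) i j

/-- The terms of a product. -/
def prodT (L : List (List (Term ι))) : List (Term ι) := L.foldr mulL (oneL R.idx)

/-- The exponent of a pair. -/
def pairExp (a : ι) (k : ι) : ℤ := bif decide (k = a) then 1 else bif decide (k = R.op a) then -1 else 0

/-- The exponents of the toral element of two indices. -/
def hExp (a b : ι) (k : ι) : ℤ :=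
  (1 + (R.q b : ℤ)) * R.pairExp a k + (1 - (R.q b : ℤ)) * R.pairExp b k

/-- The terms of a toral element. -/
def diagT (e : ι → ℤ) : List (Term ι) :=
  R.idx.map fun k => ⟨(e k).toNat, (-(e k)).toNat, k, k, 1⟩

/-- The root data are roots. -/
def rootsOk (n : ℕ) : Bool :=
  (List.range n).all fun r => decide (R.q (R.rd r).1 = 0 ∧ (R.rd r).2.1 ≠ R.op (R.rd r).1)

/-- Steinberg's commutator relations hold. -/
def commOk (D : ChevalleyDatum) : Bool :=
  (List.range D.nroots).all fun r => (List.range D.nroots).all fun s =>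
    Nat.beq s r || (Nat.beq s (D.neg r) ||
      eqL (R.prodT [R.xT s (-1) 0 1, R.xT r (-1) 1 0, R.xT s 1 0 1, R.xT r 1 1 0])
        (R.prodT ((D.commTerms r s).map fun c => R.xT c.1 (c.2.1 * (-1) ^ c.2.2.1) c.2.2.1 c.2.2.2)))

/-- The toral words are diagonal. -/
def toralOk (D : ChevalleyDatum) : Bool :=
  (List.range D.nroots).all fun r => decide (D.neg r < D.nroots) &&
    eqL (redL (R.prodT [R.xT r 1 1 0, R.xT (D.neg r) (-1) 0 1, R.xT r 1 1 0,
        R.xT r (-1) 0 0, R.xT (D.neg r) 1 0 0, R.xT r (-1) 0 0]))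
      (R.diagT (R.hExp (R.rd r).1 (R.rd r).2.1))

/-- Every root element comes from the datum. -/
def coverOk (n : ℕ) : Bool :=
  R.idx.all fun a => R.idx.all fun b => !decide (R.q a = 0 ∧ b ≠ R.op a) ||
    (eqL (R.rootT a b 1 1 0) (oneL R.idx) ||
      (List.range n).any fun r => eqL (R.rootT a b 1 1 0) (R.xT r 1 1 0) ||
        eqL (R.rootT a b 1 1 0) (R.xT r (-1) 1 0))

/-- Two root elements do not commute, seen at one entry. -/
def ncOk (r s : ℕ) (x y : ι) : Bool :=
  decide ((((((mulL (R.xT r 1 0 0) (R.xT s 1 0 0) ++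
      negL (mulL (R.xT s 1 0 0) (R.xT r 1 0 0))) : List (Term ι)).filter
    fun a : Term ι => decide (a.row = x ∧ a.col = y)).map fun a : Term ι => a.z).sum).natAbs = 1)

end RData

/-- Every root is a single commutator of two others. -/
def singleOk (D : ChevalleyDatum) : Bool :=
  (List.range D.nroots).all fun k => (List.range D.nroots).any fun r =>
    (List.range D.nroots).any fun s => !(Nat.beq s r) && (!(Nat.beq s (D.neg r)) &&
      (decide (D.commTerms r s = [(k, 1, 1, 1)]) || decide (D.commTerms r s = [(k, -1, 1, 1)])))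

variable {F : Type*} [Field F] [Fintype ι] {Q : QuadraticForm F (ι → F)}

/-- The matrix of an isometry. -/
def toM (g : Cfsg.isometryGroup F ⇑Q) : Matrix ι ι F :=
  ((g : Matrix.GeneralLinearGroup ι F) : Matrix ι ι F)

theorem toM_mul (g g' : Cfsg.isometryGroup F ⇑Q) : toM (g * g') = toM g * toM g' := rfl

theorem toM_one : toM (1 : Cfsg.isometryGroup F ⇑Q) = 1 := rfl

theorem toM_injective {g g' : Cfsg.isometryGroup F ⇑Q} (h : toM g = toM g') : g = g' :=
  Subtype.ext (Units.ext h)

theorem toM_apply (g : Cfsg.isometryGroup F ⇑Q) (r k : ι) : toM g r k = act g (bv k) r := by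
  rw [act_apply, Matrix.mulVec_single_one]
  rfl

/-- A certificate for a datum. -/
structure Certs (R : RData ι) (D : ChevalleyDatum) : Prop where
  nodup : R.idx.Nodup
  full : ∀ k, k ∈ R.idx
  roots : R.rootsOk D.nroots = true
  comm : R.commOk D = true
  toral : R.toralOk D = true
  cover : R.coverOk D.nroots = true

variable {R : RData ι} {D : ChevalleyDatum}

section Rep

variable (h : Split Q R.op R.q) (hR : Certs R D)
include hR

theorem toM_el (a b : ι) (ha : R.q a = 0) (hb : b ≠ R.op a) (z : ℤ) (i j : ℕ) (t u : F) :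
    toM (el h a b ((z : F) * t ^ i * u ^ j)) = ev t u (R.rootT a b z i j) := by
  rw [RData.rootT, ev_append, ev_oneL hR.nodup hR.full]
  ext r k
  rw [toM_apply, h.el_eq ha hb, act_eich, h.B_bv, QuadraticMap.polar_smul_right, h.B_bv,
    map_smul', h.hQ, ha]
  simp only [ev, term1, List.map_cons, List.map_nil, List.sum_cons, List.sum_nil, add_zero,
    Matrix.add_apply, Matrix.single_apply, Matrix.one_apply, Pi.add_apply, Pi.sub_apply,
    Pi.smul_apply, smul_eq_mul, bv, Pi.single_apply, Int.cast_mul, Int.cast_neg, Int.cast_add,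
    Int.cast_one, Int.cast_natCast, Nat.cast_zero, add_zero, one_mul]
  by_cases h1 : R.op a = k <;> by_cases h2 : R.op b = k <;>
    rcases eq_or_ne r b with rfl | h3 <;> rcases eq_or_ne r a with rfl | h4
  all_goals (try have h3' := Ne.symm h3)
  all_goals (try have h4' := Ne.symm h4)
  all_goals simp [*]
  all_goals ring

/-- The root elements of the datum. -/
noncomputable def xr (r : ℕ) (t : F) : Cfsg.isometryGroup F ⇑Q :=
  el h (R.rd r).1 (R.rd r).2.1 (((R.rd r).2.2 : F) * t)

omit hR in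
theorem roots_spec (hR : Certs R D) {r : ℕ} (hr : r < D.nroots) :
    R.q (R.rd r).1 = 0 ∧ (R.rd r).2.1 ≠ R.op (R.rd r).1 :=
  of_decide_eq_true (List.all_eq_true.1 hR.roots r (List.mem_range.2 hr))

theorem toM_xr {r : ℕ} (hr : r < D.nroots) (z : ℤ) (i j : ℕ) (t u : F) :
    toM (xr h r ((z : F) * t ^ i * u ^ j)) = ev t u (R.xT r z i j) := by
  rw [RData.xT, ← toM_el h hR _ _ (roots_spec hR hr).1 (roots_spec hR hr).2, xr]
  congr 2
  push_cast
  ring

theorem ev_prodT (t u : F) : ∀ L : List (List (Term ι)),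
    ev t u (R.prodT L) = (L.map (ev t u)).prod
  | [] => by simp [RData.prodT, ev_oneL hR.nodup hR.full]
  | a :: L => by
    rw [RData.prodT, List.foldr_cons, ev_mulL, ← RData.prodT, ev_prodT t u L, List.map_cons,
      List.prod_cons]

theorem rel_add {r : ℕ} (t u : F) : xr h r t * xr h r u * (xr h r (t + u))⁻¹ = 1 := by
  rw [xr, xr, xr, mul_add, h.el_add, mul_inv_cancel]

theorem xr_inv (r : ℕ) (t : F) : (xr h r t)⁻¹ = xr h r (-t) := by
  refine inv_eq_of_mul_eq_one_right ?_
  rw [xr, xr, ← h.el_add, mul_neg, add_neg_cancel]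
  have := h.el_add (R.rd r).1 (R.rd r).2.1 0 0
  rw [add_zero] at this
  exact right_eq_mul.1 this

theorem toM_list_prod (L : List (Cfsg.isometryGroup F ⇑Q)) :
    toM L.prod = (L.map toM).prod := by
  induction L with
  | nil => rfl
  | cons a L ih => rw [List.prod_cons, toM_mul, ih, List.map_cons, List.prod_cons]

theorem rel_comm {r s : ℕ} (hr : r < D.nroots) (hs : s < D.nroots) (hne : s ≠ r)
    (hnn : s ≠ D.neg r) (hlt : ∀ c ∈ D.commTerms r s, c.1 < D.nroots) (t u : F) :
    (xr h s u)⁻¹ * (xr h r t)⁻¹ * xr h s u * xr h r t =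
      ((D.commWord F r s t u).map fun p => xr h p.1 p.2).prod := by
  apply toM_injective
  have hc := List.all_eq_true.1 (List.all_eq_true.1 hR.comm r (List.mem_range.2 hr)) s
    (List.mem_range.2 hs)
  simp only [Bool.or_eq_true, Nat.beq_eq, hne, hnn, false_or] at hc
  have e := ev_eq_of_eqL hc t u
  rw [ev_prodT hR, ev_prodT hR] at e
  simp only [List.map_cons, List.map_nil, List.prod_cons, List.prod_nil, mul_one,
    ← toM_xr h hR hr, ← toM_xr h hR hs, Int.cast_neg, Int.cast_one, neg_mul, one_mul, pow_zero,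
    pow_one] at e
  rw [toM_mul, toM_mul, toM_mul, xr_inv h hR, xr_inv h hR, Matrix.mul_assoc, Matrix.mul_assoc, e,
    toM_list_prod hR, ChevalleyDatum.commWord, List.map_map, List.map_map, List.map_map]
  congr 1
  refine List.map_congr_left fun c hc' => ?_
  show ev t u _ = toM (xr h c.1 ((c.2.1 : F) * (-t) ^ c.2.2.1 * u ^ c.2.2.2))
  rw [← toM_xr h hR (hlt c hc')]
  congr 2
  rw [neg_pow]
  push_cast
  ring

/-- The toral word. -/
noncomputable def hr' (D : ChevalleyDatum) (r : ℕ) (t : F) : Cfsg.isometryGroup F ⇑Q :=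
  ((D.hWord r t).map fun p => xr h p.1 p.2).prod

theorem toM_hr' {r : ℕ} (hr : r < D.nroots) {t : F} (ht : t ≠ 0) :
    toM (hr' h D r t) = Matrix.diagonal fun k => t ^ R.hExp (R.rd r).1 (R.rd r).2.1 k := by
  have hc := List.all_eq_true.1 hR.toral r (List.mem_range.2 hr)
  rw [Bool.and_eq_true, decide_eq_true_eq] at hc
  obtain ⟨hn, hc⟩ := hc
  have e := ev_eq_of_eqL hc t t⁻¹
  rw [ev_redL (mul_inv_cancel₀ ht), ev_prodT hR] at e
  simp only [List.map_cons, List.map_nil, List.prod_cons, List.prod_nil, mul_one,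
    ← toM_xr h hR hr, ← toM_xr h hR hn, Int.cast_neg, Int.cast_one, neg_mul, one_mul, pow_zero,
    pow_one] at e
  have e2 : ev t t⁻¹ (R.diagT (R.hExp (R.rd r).1 (R.rd r).2.1)) =
      Matrix.diagonal fun k => t ^ R.hExp (R.rd r).1 (R.rd r).2.1 k := by
    generalize R.hExp (R.rd r).1 (R.rd r).2.1 = ex
    have : ev t t⁻¹ (R.diagT ex) = (R.idx.map fun k => Matrix.single k k (t ^ ex k)).sum := by
      simp only [ev, RData.diagT, List.map_map, Function.comp_def, term1, Int.cast_one, one_mul]
      congr 1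
      refine List.map_congr_left fun k _ => ?_
      congr 1
      rcases Int.natAbs_eq (ex k) with e | e <;>
        generalize (ex k).natAbs = m at e <;> rw [e] <;> simp
    rw [this, ← List.sum_toFinset _ hR.nodup,
      show R.idx.toFinset = Finset.univ from
        Finset.eq_univ_iff_forall.2 fun k => List.mem_toFinset.2 (hR.full k)]
    ext x y
    rw [Matrix.sum_apply, Matrix.diagonal_apply]
    simp only [Matrix.single_apply]
    by_cases hxy : x = y
    · subst hxy; simp
    · rw [if_neg hxy]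
      refine Finset.sum_eq_zero fun k _ => ?_
      rw [if_neg]
      rintro ⟨rfl, rfl⟩
      exact hxy rfl
  rw [← e2, ← e, hr', toM_list_prod hR]
  simp [ChevalleyDatum.hWord, ChevalleyDatum.nWord, toM_mul]

variable (hlt : ∀ r < D.nroots, ∀ s < D.nroots, ∀ c ∈ D.commTerms r s, c.1 < D.nroots)
include hlt

theorem rels : ∀ w ∈ D.steinbergRels F,
    FreeGroup.lift (fun p : Fin D.nroots × F => xr h p.1 p.2) w = 1 := by
  have hX : ∀ r, r < D.nroots → ∀ t : F,
      FreeGroup.lift (fun p : Fin D.nroots × F => xr h p.1 p.2) (D.stX r t) = xr h r t := by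
    intro r hr t
    simp [ChevalleyDatum.stX, hr]
  rintro w ((⟨r, a, b, hr, rfl⟩ | ⟨r, s, t, u, hr, hs, hne, hnn, rfl⟩) | ⟨r, a, b, hr, ha, hb, rfl⟩)
  · simp only [map_mul, map_inv, hX r hr]
    exact rel_add h hR a b
  · simp only [map_mul, map_inv, hX r hr, hX s hs]
    rw [rel_comm h hR hr hs hne hnn (hlt r hr s hs), ChevalleyDatum.stWord, map_list_prod,
      List.map_map]
    rw [mul_inv_eq_one]
    congr 1
    refine List.map_congr_left fun p hp => ?_
    simp only [ChevalleyDatum.commWord, List.mem_map] at hp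
    obtain ⟨c, hc, rfl⟩ := hp
    exact (hX _ (hlt r hr s hs c hc) _).symm
  · have hn : D.neg r < D.nroots := by
      have hc := List.all_eq_true.1 hR.toral r (List.mem_range.2 hr)
      rw [Bool.and_eq_true, decide_eq_true_eq] at hc
      exact hc.1
    have hh : ∀ c : F,
        FreeGroup.lift (fun p : Fin D.nroots × F => xr h p.1 p.2) (D.stH r c) = hr' h D r c := by
      intro c
      simp [ChevalleyDatum.stH, ChevalleyDatum.stWord, ChevalleyDatum.hWord, ChevalleyDatum.nWord,
        hr', hX r hr, hX _ hn, mul_assoc]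
    simp only [map_mul, map_inv, hh, mul_inv_eq_one]
    apply toM_injective
    rw [toM_mul, toM_hr' h hR hr ha, toM_hr' h hR hr hb, toM_hr' h hR hr (mul_ne_zero ha hb),
      Matrix.diagonal_mul_diagonal]
    simp only [mul_zpow]

/-- The natural representation. -/
noncomputable def natHom : D.SteinbergGroup F →* Cfsg.isometryGroup F ⇑Q :=
  PresentedGroup.toGroup (rels h hR hlt)

theorem natHom_gen {r : ℕ} (hr : r < D.nroots) (t : F) :
    natHom h hR hlt (D.stGen F r t) = xr h r t := by
  have : D.stGen F r t = PresentedGroup.of ((⟨r, hr⟩, t) : Fin D.nroots × F) := by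
    simp [ChevalleyDatum.stGen, ChevalleyDatum.stX, hr]; rfl
  rw [this, natHom, PresentedGroup.toGroup.of]

theorem el_mem_range (a b : ι) (t : F) : el h a b t ∈ (natHom h hR hlt).range := by
  by_cases hh : R.q a = 0 ∧ b ≠ R.op a
  swap
  · rw [el, dif_neg hh]; exact one_mem _
  have hc := List.all_eq_true.1 (List.all_eq_true.1 hR.cover a (hR.full a)) b (hR.full b)
  simp only [decide_eq_true hh, Bool.not_true, Bool.false_or, Bool.or_eq_true, List.any_eq_true,
    List.mem_range] at hc
  have e0 : el h a b t = el h a b (((1 : ℤ) : F) * t ^ 1 * (1 : F) ^ 0) := by simp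
  rcases hc with hc | ⟨r, hr, hc | hc⟩
  · have : el h a b t = 1 := toM_injective (by
      rw [e0, toM_el h hR a b hh.1 hh.2, ev_eq_of_eqL hc, ev_oneL hR.nodup hR.full, toM_one])
    rw [this]; exact one_mem _
  · refine ⟨D.stGen F r (((1 : ℤ) : F) * t ^ 1 * (1 : F) ^ 0), ?_⟩
    rw [natHom_gen h hR hlt hr]
    apply toM_injective
    rw [toM_xr h hR hr, ← ev_eq_of_eqL hc, e0, toM_el h hR a b hh.1 hh.2]
  · refine ⟨D.stGen F r (((-1 : ℤ) : F) * t ^ 1 * (1 : F) ^ 0), ?_⟩
    rw [natHom_gen h hR hlt hr]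
    apply toM_injective
    rw [toM_xr h hR hr, ← ev_eq_of_eqL hc, e0, toM_el h hR a b hh.1 hh.2]

theorem range_eq : (natHom h hR hlt).range = rootGroup h := by
  refine le_antisymm ?_ ((Subgroup.closure_le _).2 ?_)
  · rw [MonoidHom.range_eq_map, ← StSteinberg.stGen_closure, MonoidHom.map_closure]
    refine (Subgroup.closure_le _).2 ?_
    rintro _ ⟨_, ⟨r, t, hr, rfl⟩, rfl⟩
    rw [natHom_gen h hR hlt hr]
    exact h.el_mem _ _ _
  · rintro _ ⟨a, b, t, rfl⟩
    exact el_mem_range h hR hlt a b t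

theorem hr'_mem {r : ℕ} (hr : r < D.nroots) (t : F) : hr' h D r t ∈ rootGroup h := by
  refine list_prod_mem fun g hg => ?_
  obtain ⟨p, -, rfl⟩ := List.mem_map.1 hg
  exact h.el_mem _ _ _

/-- The square of a toral element lies in the root group. -/
theorem dia_sq_mem {a : ι} (ha : R.q a = 0) {r s : ℕ} (hr : r < D.nroots) (hs : s < D.nroots)
    (hrs : R.idx.all (fun k => decide (R.hExp (R.rd r).1 (R.rd r).2.1 k +
      R.hExp (R.rd s).1 (R.rd s).2.1 k = 2 * R.pairExp a k)) = true) {t : F} (ht : t ≠ 0) :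
    dia Q R.op a t * dia Q R.op a t ∈ rootGroup h := by
  have e : dia Q R.op a t * dia Q R.op a t = hr' h D r t * hr' h D s t := by
    apply toM_injective
    rw [toM_mul (hr' h D r t), toM_hr' h hR hr ht, toM_hr' h hR hs ht, Matrix.diagonal_mul_diagonal]
    ext x y
    rw [toM_apply, h.dia_mul ha ht ht, h.act_dia_all ha (mul_ne_zero ht ht), Matrix.diagonal_apply]
    have hk := of_decide_eq_true (List.all_eq_true.1 hrs x (hR.full x))
    rw [← zpow_add₀ ht, hk, RData.pairExp]
    by_cases hxy : x = y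
    · subst hxy
      simp only [bv, Pi.smul_apply, Pi.single_eq_same, smul_eq_mul, mul_one, if_true]
      by_cases h1 : x = a
      · simp [h1, two_mul, zpow_add₀ ht, pow_two]
      by_cases h2 : x = R.op a
      · simp [h2, h.op_ne ha, pow_two, mul_inv]
      · simp [h1, h2]
    · simp [bv, hxy]
  rw [e]
  exact mul_mem (hr'_mem h hR hlt hr t) (hr'_mem h hR hlt hs t)

/-- The image lies in the derived group when every root is a commutator. -/
theorem rootGroup_le_of_single (hsingle : singleOk D = true) :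
    rootGroup h ≤ commutator (Cfsg.isometryGroup F ⇑Q) := by
  rw [← range_eq h hR hlt, MonoidHom.range_eq_map, ← StSteinberg.stGen_closure,
    MonoidHom.map_closure]
  refine (Subgroup.closure_le _).2 ?_
  rintro _ ⟨_, ⟨k, t, hk, rfl⟩, rfl⟩
  have hc := List.all_eq_true.1 hsingle k (List.mem_range.2 hk)
  simp only [List.any_eq_true, List.mem_range, Bool.and_eq_true, Bool.not_eq_true',
    Bool.or_eq_true, decide_eq_true_eq] at hc
  obtain ⟨r, hr, s, hs, hne, hnn, hc⟩ := hc
  have hne' : s ≠ r := fun e => by subst e; simp at hne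
  have hnn' : s ≠ D.neg r := fun e => by rw [e] at hnn; simp at hnn
  rw [natHom_gen h hR hlt hk]
  rcases hc with hc | hc
  · have e := rel_comm h hR hr hs hne' hnn' (hlt r hr s hs) (-t) 1
    simp [ChevalleyDatum.commWord, hc] at e
    rw [← e, show (xr h s 1)⁻¹ * (xr h r (-t))⁻¹ * xr h s 1 * xr h r (-t) =
      ⁅(xr h s 1)⁻¹, (xr h r (-t))⁻¹⁆ by rw [commutatorElement_def, inv_inv, inv_inv]]
    exact Subgroup.commutator_mem_commutator (Subgroup.mem_top _) (Subgroup.mem_top _)
  · have e := rel_comm h hR hr hs hne' hnn' (hlt r hr s hs) t 1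
    simp [ChevalleyDatum.commWord, hc] at e
    rw [← e, show (xr h s 1)⁻¹ * (xr h r t)⁻¹ * xr h s 1 * xr h r t =
      ⁅(xr h s 1)⁻¹, (xr h r t)⁻¹⁆ by rw [commutatorElement_def, inv_inv, inv_inv]]
    exact Subgroup.commutator_mem_commutator (Subgroup.mem_top _) (Subgroup.mem_top _)

theorem xr_noncomm {r s : ℕ} {x y : ι} (hr : r < D.nroots) (hs : s < D.nroots)
    (hnc : R.ncOk r s x y = true) :
    xr h r (1 : F) * xr h s 1 ≠ xr h s 1 * xr h r 1 := by
  intro e
  have e' := congrArg toM e
  have hx : ∀ k, k < D.nroots → toM (xr h k (1 : F)) = ev (1 : F) 1 (R.xT k 1 0 0) := fun k hk => by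
    rw [← toM_xr h hR hk]; simp
  rw [toM_mul, toM_mul, hx r hr, hx s hs, ← ev_mulL, ← ev_mulL, ← sub_eq_zero, sub_eq_add_neg,
    ← ev_negL, ← ev_append] at e'
  have hent : ∀ L : List (Term ι), ev (1 : F) 1 L x y =
      ((((L.filter fun a => decide (a.row = x ∧ a.col = y)).map fun a => a.z).sum : ℤ) : F) := by
    intro L
    induction L with
    | nil => simp [ev]
    | cons a L ih =>
      rw [ev_cons, Matrix.add_apply, ih, List.filter_cons, term1, Matrix.single_apply]
      by_cases hxy : a.row = x ∧ a.col = y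
      · simp [hxy]
      · simp [hxy]
  have h0 := congrFun (congrFun e' x) y
  rw [hent, Matrix.zero_apply] at h0
  rcases Int.natAbs_eq_iff.1 (of_decide_eq_true hnc) with hz | hz <;> rw [hz] at h0 <;> simp at h0

end Rep

/-- A simple quotient of two central covers of the same group. -/
theorem nonempty_iso {G H S : Type*} [Group G] [Group H] [Group S] [IsSimpleGroup S]
    (θ : G →* S) (hθ : Function.Surjective θ) (hker : θ.ker ≤ Subgroup.center G)
    (φ : G →* H) (hφ : Function.Surjective φ) (hnc : ∃ x y : H, x * y ≠ y * x) :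
    Nonempty (S ≃* H ⧸ Subgroup.center H) := by
  obtain ⟨ψ, hψ⟩ : ∃ ψ, ψ = (QuotientGroup.mk' (Subgroup.center H)).comp φ := ⟨_, rfl⟩
  have hψs : Function.Surjective ψ := by
    rw [hψ, MonoidHom.coe_comp]; exact (QuotientGroup.mk'_surjective _).comp hφ
  have hle : θ.ker ≤ ψ.ker := by
    intro z hz
    rw [MonoidHom.mem_ker, hψ, MonoidHom.comp_apply]
    refine (QuotientGroup.eq_one_iff _).2 (Subgroup.mem_center_iff.2 fun y => ?_)
    obtain ⟨w, rfl⟩ := hφ y
    rw [← map_mul, ← map_mul, Subgroup.mem_center_iff.1 (hker hz) w]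
  have hN : ((ψ.ker).map θ).Normal := Subgroup.Normal.map inferInstance θ hθ
  rcases hN.eq_bot_or_eq_top with hb | ht
  · have hk : θ.ker = ψ.ker :=
      le_antisymm hle ((Subgroup.map_eq_bot_iff _).1 hb)
    exact ⟨(QuotientGroup.quotientKerEquivOfSurjective θ hθ).symm.trans
      ((QuotientGroup.quotientMulEquivOfEq hk).trans
        (QuotientGroup.quotientKerEquivOfSurjective ψ hψs))⟩
  · exfalso
    obtain ⟨x, y, hxy⟩ := hnc
    obtain ⟨g, rfl⟩ := hφ x
    apply hxy
    obtain ⟨k, hk, hkg⟩ : θ g ∈ (ψ.ker).map θ := by rw [ht]; trivial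
    have : k⁻¹ * g ∈ ψ.ker := hle (by rw [MonoidHom.mem_ker, map_mul, map_inv, hkg, inv_mul_cancel])
    have hg : g ∈ ψ.ker := by simpa using mul_mem hk this
    rw [MonoidHom.mem_ker, hψ, MonoidHom.comp_apply] at hg
    exact (Subgroup.mem_center_iff.1 ((QuotientGroup.eq_one_iff _).1 hg) y).symm

variable (h : Split Q R.op R.q) (hR : Certs R D)
include hR

/-- The Chevalley group is the projective derived group of the isometry group. -/
theorem nonempty_pomega {T : Table.Tab} (hC : Cert.Certified D T) (hT : StKernel.HasCerts T)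
    (hsimple : IsSimpleGroup (D.group F)) (hom : Cfsg.Omega F ⇑Q = rootGroup h) {r s : ℕ} {x y : ι}
    (hr : r < D.nroots) (hs : s < D.nroots) (hnc : R.ncOk r s x y = true) :
    Nonempty (D.group F ≃* Cfsg.POmega F ⇑Q) := by
  have hlt : ∀ r < D.nroots, ∀ s < D.nroots, ∀ c ∈ D.commTerms r s, c.1 < D.nroots :=
    fun r hr s hs => Relations.commTerms_lt hC hr hs
  obtain ⟨S, hS⟩ : ∃ S, S = StSteinberg.stSys hC (StSteinberg.stHom hC)
      (StSteinberg.stHom_gen (F := F) hC) := ⟨_, rfl⟩
  have hθr : (StSteinberg.stHom (F := F) hC).range = D.group F := by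
    have := StKernel.th_range S
    rw [hS] at this
    exact this
  obtain ⟨θ, hθ⟩ : ∃ θ : D.SteinbergGroup F →* D.group F,
      ∀ x, (θ x : GL D.Idx F) = StSteinberg.stHom hC x :=
    ⟨(StSteinberg.stHom hC).codRestrict _ fun x => hθr ▸ ⟨x, rfl⟩, fun _ => rfl⟩
  have hθs : Function.Surjective θ := by
    rintro ⟨y, hy⟩
    rw [← hθr] at hy
    obtain ⟨x, rfl⟩ := hy
    exact ⟨x, Subtype.ext (hθ x)⟩
  have hker : θ.ker ≤ Subgroup.center (D.SteinbergGroup F) := by
    have := StSteinberg.center_eq_ker S hT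
    rw [hS] at this
    intro z hz
    rw [← this, MonoidHom.mem_ker]
    show StSteinberg.stHom hC z = 1
    rw [← hθ z, MonoidHom.mem_ker.1 hz]
    rfl
  have hrg : (natHom h hR hlt).range = Cfsg.Omega F ⇑Q := by rw [range_eq h hR hlt, hom]
  obtain ⟨φ, hφ⟩ : ∃ φ : D.SteinbergGroup F →* Cfsg.Omega F ⇑Q,
      ∀ x, (φ x : Cfsg.isometryGroup F ⇑Q) = natHom h hR hlt x :=
    ⟨(natHom h hR hlt).codRestrict _ fun x => hrg ▸ ⟨x, rfl⟩, fun _ => rfl⟩
  have hφs : Function.Surjective φ := by
    rintro ⟨y, hy⟩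
    rw [← hrg] at hy
    obtain ⟨x, rfl⟩ := hy
    exact ⟨x, Subtype.ext (hφ x)⟩
  refine nonempty_iso θ hθs hker φ hφs ⟨φ (D.stGen F r 1), φ (D.stGen F s 1), fun e => ?_⟩
  apply xr_noncomm h hR hlt hr hs hnc
  have := congrArg Subtype.val e
  simp only [Subgroup.coe_mul, hφ, natHom_gen h hR hlt hr, natHom_gen h hR hlt hs] at this
  exact this

end Cfsg.Agent.Chevalley.Natural
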