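import Cfsg.Agent.Lib.Classical.OrthEichler

/-!
Split quadratic forms on a standard basis over an arbitrary field: the root elements generate a normal
subgroup with abelian quotient, found by elimination.
-/

set_option autoImplicit false
set_option linter.unusedSectionVars false

open scoped Matrix

namespace Cfsg.Agent.Chevalley.Natural

open Cfsg.Agent.Classical.Orth Cfsg.Agent.Forms Cfsg.Agent.Forms.QuadStd
  Cfsg.Agent.Forms.Reflections
open scoped commutatorElement

variable {F : Type*} [Field F] {ι : Type} [Fintype ι] [DecidableEq ι]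

/-- A standard basis of hyperbolic pairs and at most one further vector. -/
structure Split (Q : QuadraticForm F (ι → F)) (op : ι → ι) (q : ι → ℕ) : Prop where
  op_op : ∀ a, op (op a) = a
  q01 : ∀ a, q a = 0 ∨ q a = 1
  op_fix : ∀ a, op a = a ↔ q a = 1
  uniq : ∀ a b, q a = 1 → q b = 1 → a = b
  hQ : ∀ a, Q (Pi.single a 1) = (q a : F)
  hB : ∀ a b, QuadraticMap.polar Q (Pi.single a 1) (Pi.single b 1) =
    if b = op a then 1 + (q a : F) else 0

variable {Q : QuadraticForm F (ι → F)} {op : ι → ι} {q : ι → ℕ}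

local notation "Iso" => Cfsg.isometryGroup F (DFunLike.coe Q)
local notation "B" => QuadraticMap.polar Q

/-- The standard basis vectors. -/
abbrev bv (a : ι) : ι → F := Pi.single a 1

namespace Split

variable (h : Split Q op q)
include h

theorem op_ne {a : ι} (ha : q a = 0) : op a ≠ a := fun e => by
  have := (h.op_fix a).1 e; omega

theorem q_op {a : ι} (ha : q a = 0) : q (op a) = 0 := by
  rcases h.q01 (op a) with e | e
  · exact e
  · have := (h.op_fix _).2 e
    rw [h.op_op] at this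
    exact absurd this.symm (h.op_ne ha)

theorem Q_bv {a : ι} (ha : q a = 0) : Q (bv a) = 0 := by rw [h.hQ, ha, Nat.cast_zero]

theorem B_op {a : ι} (ha : q a = 0) : B (bv a) (bv (op a)) = 1 := by
  rw [h.hB, if_pos rfl, ha, Nat.cast_zero, add_zero]

theorem B_ne {a b : ι} (hb : b ≠ op a) : B (bv a) (bv b) = 0 := by rw [h.hB, if_neg hb]

theorem pair {a : ι} (ha : q a = 0) : IsPair Q (bv a) (bv (op a)) :=
  ⟨h.Q_bv ha, h.Q_bv (h.q_op ha), h.B_op ha⟩

theorem B_bv (x : ι → F) (a : ι) : B x (bv a) = (1 + (q a : F)) * x (op a) := by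
  have hx : x = ∑ k, x k • (bv k : ι → F) := by
    funext i
    simp [bv, Pi.single_apply, Finset.sum_apply]
  rw [QuadraticMap.polar_comm]
  conv_lhs => rw [hx, ← polB_apply, map_sum]
  simp only [map_smul, polB_apply, h.hB, smul_eq_mul]
  rw [Finset.sum_eq_single (op a) (fun b _ hb => by rw [if_neg hb, mul_zero])
    (fun h' => absurd (Finset.mem_univ _) h'), if_pos rfl]
  ring

theorem B_sing (x : ι → F) {a : ι} (ha : q a = 0) : B x (bv a) = x (op a) := by
  rw [h.B_bv, ha, Nat.cast_zero, add_zero, one_mul]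

theorem ext_bv {g g' : Iso} (H : ∀ k, act g (bv k) = act g' (bv k)) : g = g' := by
  refine act_ext fun x => ?_
  have hx : x = ∑ k, x k • (bv k : ι → F) := by
    funext i
    simp [bv, Pi.single_apply, Finset.sum_apply]
  rw [hx, map_sum, map_sum]
  simp only [map_smul, H]

end Split

/-- The root element of two indices (the identity when they are not a root). -/
noncomputable def el (h : Split Q op q) (a b : ι) (t : F) : Iso :=
  if hh : q a = 0 ∧ b ≠ op a then
    eich (bv a) (t • bv b) (h.Q_bv hh.1)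
      (by rw [QuadraticMap.polar_smul_right, h.B_ne hh.2, smul_zero])
  else 1

/-- The subgroup generated by the root elements. -/
noncomputable def rootGroup (h : Split Q op q) : Subgroup Iso :=
  Subgroup.closure {g | ∃ (a b : ι) (t : F), g = el h a b t}

/-- The elements fixing the basis vectors outside a set. -/
def fixOut (Q : QuadraticForm F (ι → F)) (S : Finset ι) : Subgroup (Cfsg.isometryGroup F ⇑Q) where
  carrier := {g | ∀ k ∉ S, act g (bv k) = bv k}
  one_mem' k _ := act_one _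
  mul_mem' {g g'} hg hg' k hk := by rw [act_mul, hg' k hk, hg k hk]
  inv_mem' {g} hg k hk := by
    conv_lhs => rw [← hg k hk]
    exact Spinor.act_inv_cancel g _

/-- The reflection interchanging a pair up to scalars. -/
noncomputable def swp (Q : QuadraticForm F (ι → F)) (op : ι → ι) (a : ι) (t : F) :
    Cfsg.isometryGroup F ⇑Q :=
  reflect Q (bv a + t • bv (op a))

/-- The toral element of a pair. -/
noncomputable def dia (Q : QuadraticForm F (ι → F)) (op : ι → ι) (a : ι) (t : F) :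
    Cfsg.isometryGroup F ⇑Q :=
  swp Q op a 1 * swp Q op a t

/-- The Eichler element clearing everything outside a pair. -/
theorem kill_pair {u v y w : ι → F} (hp : IsPair Q u v) (hβ : B y u ≠ 0)
    (hw : w = (-(B y u)⁻¹) • proj Q u v y) (huw : B u w = 0) :
    ∃ A : F, act (eich u w hp.hu huw) y = A • u + B y u • v ∧ A * B y u = Q y := by
  refine ⟨B y v - B y w - Q w * B y u, ?_, ?_⟩
  · rw [act_eich]
    nth_rw 1 [proj_add (Q := Q) u v y]
    subst hw
    rw [smul_smul, mul_neg, mul_inv_cancel₀ hβ]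
    module
  · have he : act (eich u w hp.hu huw) y = (B y v - B y w - Q w * B y u) • u + B y u • v := by
      rw [act_eich]
      nth_rw 1 [proj_add (Q := Q) u v y]
      subst hw
      rw [smul_smul, mul_neg, mul_inv_cancel₀ hβ]
      module
    rw [← pair_value hp, ← he, act_map]

/-- Monomial elements. -/
def Mono (g : Cfsg.isometryGroup F ⇑Q) : Prop :=
  ∀ k, ∃ (c : F) (k' : ι), c ≠ 0 ∧ act g (bv k) = c • bv k'

theorem Mono.mul {g g' : Cfsg.isometryGroup F ⇑Q} (hg : Mono g) (hg' : Mono g') :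
    Mono (g * g') := fun k => by
  obtain ⟨c, k', hc, e⟩ := hg' k
  obtain ⟨c', k'', hc', e'⟩ := hg k'
  exact ⟨c * c', k'', mul_ne_zero hc hc', by rw [act_mul, e, map_smul, e', smul_smul]⟩

/-- The list can be peeled off. -/
def goodList (op : ι → ι) (q : ι → ℕ) : Finset ι → List ι → Bool
  | _, [] => true
  | S, a :: L => decide (q a = 0 ∧ a ∈ S ∧ ∃ b ∈ S, b ≠ a ∧ b ≠ op a) &&
      goodList op q ((S.erase a).erase (op a)) L

namespace Split

variable (h : Split Q op q)
include h

theorem el_eq {a b : ι} (ha : q a = 0) (hb : b ≠ op a) (t : F) :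
    el h a b t = eich (bv a) (t • bv b) (h.Q_bv ha)
      (by rw [QuadraticMap.polar_smul_right, h.B_ne hb, smul_zero]) := by
  rw [el, dif_pos ⟨ha, hb⟩]

theorem el_mem (a b : ι) (t : F) : el h a b t ∈ rootGroup h :=
  Subgroup.subset_closure ⟨a, b, t, rfl⟩

theorem el_add (a b : ι) (t u : F) : el h a b (t + u) = el h a b t * el h a b u := by
  by_cases hh : q a = 0 ∧ b ≠ op a
  · rw [h.el_eq hh.1 hh.2, h.el_eq hh.1 hh.2, h.el_eq hh.1 hh.2, eich_mul,
      eich_congr (add_smul t u (bv b : ι → F))]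
  · rw [el, el, el, dif_neg hh, dif_neg hh, dif_neg hh, one_mul]

theorem eich_mem_fix {a : ι} (ha : q a = 0) {S : Finset ι} (haS : a ∈ S)
    (hS : ∀ k ∈ S, op k ∈ S) (w : ι → F) (hw : w (op a) = 0) (hwS : ∀ k ∉ S, w k = 0) :
    eich (bv a) w (h.Q_bv ha) (by rw [QuadraticMap.polar_comm, h.B_sing _ ha, hw]) ∈
      rootGroup h ⊓ fixOut Q S := by
  refine Subgroup.mem_inf.2 ⟨?_, fun k hk => ?_⟩
  · have key : ∀ (s : Finset ι) (x : ι → F) (hx : x (op a) = 0), (∀ k ∉ s, x k = 0) →
        eich (bv a) x (h.Q_bv ha) (by rw [QuadraticMap.polar_comm, h.B_sing _ ha, hx]) ∈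
          rootGroup h := by
      intro s
      induction s using Finset.induction_on with
      | empty =>
        intro x hx hsupp
        rw [eich_congr (show x = 0 from funext fun k => hsupp k (Finset.notMem_empty k)),
          eich_zero_right]
        exact one_mem _
      | @insert b s hb ih =>
        intro x hx hsupp
        by_cases hba : b = op a
        · subst hba
          refine ih x hx fun k hk => ?_
          by_cases hk' : k = op a
          · rw [hk', hx]
          · exact hsupp k (by simp [hk, hk'])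
        · obtain ⟨y, hy⟩ : ∃ y, y = x - x b • (bv b : ι → F) := ⟨_, rfl⟩
          have hy0 : y (op a) = 0 := by simp [hy, bv, hx, Ne.symm hba]
          have hys : ∀ k ∉ s, y k = 0 := fun k hk => by
            by_cases hk' : k = b
            · subst hk'; simp [hy, bv]
            · simp [hy, bv, hk', hsupp k (by simp [hk, hk'])]
          have e : x = x b • (bv b : ι → F) + y := by rw [hy, add_sub_cancel]
          rw [eich_congr e, ← eich_mul (h.Q_bv ha)
            (by rw [QuadraticMap.polar_smul_right, h.B_ne hba, smul_zero])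
            (by rw [QuadraticMap.polar_comm, h.B_sing _ ha, hy0]), ← h.el_eq ha hba]
          exact mul_mem (h.el_mem a b _) (ih y hy0 hys)
    exact key Finset.univ w hw fun k hk => absurd (Finset.mem_univ k) hk
  · refine act_eich_fix _ _ (h.B_ne ?_) ?_
    · rintro rfl
      exact hk (by have := hS _ haS; rwa [h.op_op] at this)
    · rw [QuadraticMap.polar_comm, h.B_bv, hwS _ fun e => hk (h.op_op k ▸ hS _ e), mul_zero]

theorem act_swp {a : ι} (ha : q a = 0) {t : F} (ht : t ≠ 0) :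
    act (swp Q op a t) (bv a) = (-t) • bv (op a) ∧
      act (swp Q op a t) (bv (op a)) = (-t⁻¹) • bv a ∧
      ∀ k, k ≠ a → k ≠ op a → act (swp Q op a t) (bv k) = bv k := by
  have hv : Q (bv a + t • bv (op a)) = t := by
    have := pair_value (h.pair ha) 1 t
    rwa [one_smul, one_mul] at this
  have hk : ∀ x : ι → F, B (bv a + t • bv (op a)) x = x (op a) + t * x a := fun x => by
    rw [QuadraticMap.polar_comm, QuadraticMap.polar_add_right, QuadraticMap.polar_smul_right, h.B_sing _ ha,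
      h.B_sing _ (h.q_op ha), h.op_op, smul_eq_mul]
  refine ⟨?_, ?_, fun k hk1 hk2 => ?_⟩
  · rw [swp, act_reflect, hk, hv]
    simp only [bv, Pi.single_apply, if_pos, if_neg (h.op_ne ha), zero_add, mul_one]
    rw [inv_mul_cancel₀ ht, one_smul]
    module
  · rw [swp, act_reflect, hk, hv]
    simp only [bv, Pi.single_apply, if_pos, if_neg (Ne.symm (h.op_ne ha)), mul_zero, add_zero]
    match_scalars <;> field_simp <;> ring
  · rw [swp, act_reflect, hk]
    simp [bv, Ne.symm hk1, Ne.symm hk2]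

theorem mono_swp {a : ι} (ha : q a = 0) {t : F} (ht : t ≠ 0) : Mono (swp Q op a t) := fun k => by
  obtain ⟨e1, e2, e3⟩ := h.act_swp ha ht
  by_cases h1 : k = a
  · exact ⟨-t, op a, neg_ne_zero.2 ht, h1 ▸ e1⟩
  by_cases h2 : k = op a
  · exact ⟨-t⁻¹, a, neg_ne_zero.2 (inv_ne_zero ht), h2 ▸ e2⟩
  exact ⟨1, k, one_ne_zero, by rw [one_smul, e3 k h1 h2]⟩

theorem act_dia {a : ι} (ha : q a = 0) {t : F} (ht : t ≠ 0) :
    act (dia Q op a t) (bv a) = t • bv a ∧ act (dia Q op a t) (bv (op a)) = t⁻¹ • bv (op a) ∧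
      ∀ k, k ≠ a → k ≠ op a → act (dia Q op a t) (bv k) = bv k := by
  obtain ⟨e1, e2, e3⟩ := h.act_swp ha ht
  obtain ⟨f1, f2, f3⟩ := h.act_swp ha (one_ne_zero (α := F))
  refine ⟨?_, ?_, fun k hk1 hk2 => ?_⟩
  · rw [dia, act_mul, e1, map_smul, f2, smul_smul, inv_one]
    congr 1; ring
  · rw [dia, act_mul, e2, map_smul, f1, smul_smul]
    congr 1; ring
  · rw [dia, act_mul, e3 k hk1 hk2, f3 k hk1 hk2]

theorem dia_fixOut {a : ι} (ha : q a = 0) {t : F} (ht : t ≠ 0) {S : Finset ι} (haS : a ∈ S)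
    (hS : ∀ k ∈ S, op k ∈ S) : dia Q op a t ∈ fixOut Q S := fun k hk =>
  (h.act_dia ha ht).2.2 k (fun e => hk (e ▸ haS)) (fun e => hk (e ▸ hS a haS))

theorem mono_dia {a : ι} (ha : q a = 0) {t : F} (ht : t ≠ 0) : Mono (dia Q op a t) :=
  (h.mono_swp ha one_ne_zero).mul (h.mono_swp ha ht)

theorem mono_reflect_of_fix {a : ι} (ha : q a = 1) : Mono (reflect Q (bv a)) := fun k => by
  have e : act (reflect Q (bv a)) (bv k) = bv k - ((Q (bv a))⁻¹ * B (bv a) (bv k)) • bv a :=
    act_reflect _ _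
  rw [h.hQ, ha, QuadraticMap.polar_comm, h.B_bv, (h.op_fix a).2 ha, ha, Nat.cast_one, inv_one,
    one_mul] at e
  by_cases hk : k = a
  · subst hk
    refine ⟨-1, k, by simp, ?_⟩
    rw [e]
    simp only [bv, Pi.single_eq_same]
    module
  · refine ⟨1, k, one_ne_zero, ?_⟩
    rw [e]
    simp [bv, Ne.symm hk]

theorem conj_el {g : Iso} (hg : Mono g) (a b : ι) (t : F) :
    g * el h a b t * g⁻¹ ∈ rootGroup h := by
  by_cases hh : q a = 0 ∧ b ≠ op a
  swap
  · rw [el, dif_neg hh, mul_one, mul_inv_cancel]; exact one_mem _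
  obtain ⟨ha, hb⟩ := hh
  obtain ⟨c, a', hc, ea⟩ := hg a
  obtain ⟨c', b', hc', eb⟩ := hg b
  have ha' : q a' = 0 := by
    have := act_map g (bv a)
    rw [ea, map_smul', h.hQ, h.hQ, ha, Nat.cast_zero, mul_eq_zero] at this
    rcases h.q01 a' with e | e
    · exact e
    · simp [e, hc] at this
  have hb' : b' ≠ op a' := by
    intro e
    have := act_polar g (bv a) (bv b)
    rw [ea, eb, QuadraticMap.polar_smul_left, QuadraticMap.polar_smul_right, e, h.B_op ha',
      h.B_ne hb] at this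
    simp [hc, hc'] at this
  rw [h.el_eq ha hb, eich_conj]
  have e1 : act g (t • bv b) = (t * c') • bv b' := by rw [map_smul, eb, smul_smul]
  simp only [ea, e1]
  rw [eich_smul c _ _ (h.Q_bv ha')
    (by rw [smul_smul, QuadraticMap.polar_smul_right, h.B_ne hb', smul_zero]),
    eich_congr (smul_smul c (t * c') (bv b' : ι → F)), ← h.el_eq ha' hb']
  exact h.el_mem _ _ _

theorem mem_normalizer {g : Iso} (hg : Mono g) (hg' : Mono g⁻¹) :
    g ∈ Subgroup.normalizer (rootGroup h : Set Iso) := by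
  have key : ∀ {g : Iso}, Mono g → ∀ x ∈ rootGroup h, g * x * g⁻¹ ∈ rootGroup h := by
    intro g hg x hx
    have : rootGroup h ≤ (rootGroup h).comap (MulAut.conj g).toMonoidHom := by
      refine (Subgroup.closure_le _).2 ?_
      rintro _ ⟨a, b, t, rfl⟩
      exact h.conj_el hg a b t
    exact this hx
  rw [Subgroup.mem_normalizer_iff]
  refine fun x => ⟨key hg x, fun hx => ?_⟩
  have := key hg' _ hx
  simpa [mul_assoc] using this

/-- Vectors of elements fixing the outside of a set stay inside the set. -/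
theorem supp_act {S : Finset ι} (hS : ∀ k ∈ S, op k ∈ S) (hfix : ∀ k, q k = 1 → k ∈ S) {g : Iso}
    (hg : g ∈ fixOut Q S) {x : ι → F} (hx : ∀ k ∉ S, x k = 0) :
    ∀ k ∉ S, act g x k = 0 := by
  intro k hk
  have hk0 : q k = 0 := by
    rcases h.q01 k with e | e
    · exact e
    · exact absurd (hfix k e) hk
  have hopk : op k ∉ S := fun e => hk (h.op_op k ▸ hS _ e)
  have e := h.B_sing (act g x) (h.q_op hk0)
  rw [h.op_op] at e
  rw [← e, ← hg _ hopk, act_polar, h.B_sing _ (h.q_op hk0), h.op_op]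
  exact hx k hk

theorem move_line {S : Finset ι} (hS : ∀ k ∈ S, op k ∈ S) {a b : ι}
    (ha : q a = 0) (haS : a ∈ S) (hbS : b ∈ S) (hba : b ≠ a) (hbop : b ≠ op a) {z : ι → F}
    (hzS : ∀ k ∉ S, z k = 0) (hz0 : z ≠ 0) (hQz : Q z = 0) :
    ∃ k ∈ rootGroup h ⊓ fixOut Q S, ∃ c : F, c ≠ 0 ∧ act k z = c • bv a := by
  obtain ⟨w0, hw0a, hw0a', hw0S, hw0⟩ : ∃ w : ι → F,
      w a = 0 ∧ w (op a) = 0 ∧ (∀ k ∉ S, w k = 0) ∧ Q w ≠ 0 := by
    rcases h.q01 b with e | e
    · refine ⟨bv b + (1 : F) • bv (op b), ?_, ?_, fun k hk => ?_, ?_⟩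
      · have : a ≠ op b := fun e' => hbop (by rw [e', h.op_op])
        simp [bv, hba.symm, this]
      · have : op a ≠ op b := fun e' => hba (by
          have := congrArg op e'; rw [h.op_op, h.op_op] at this; exact this.symm)
        simp [bv, hbop.symm, this]
      · have h1 : k ≠ b := fun e' => hk (e' ▸ hbS)
        have h2 : k ≠ op b := fun e' => hk (e' ▸ hS b hbS)
        simp [bv, h1, h2]
      · have := pair_value (h.pair e) 1 1
        rw [one_smul (M := F), one_mul] at this
        rw [this]; exact one_ne_zero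
    · refine ⟨bv b, by simp [bv, hba.symm], by simp [bv, hbop.symm], fun k hk => ?_, ?_⟩
      · simp [bv, show k ≠ b from fun e' => hk (e' ▸ hbS)]
      · rw [h.hQ, e, Nat.cast_one]; exact one_ne_zero
  have hopa := hS a haS
  have ha' := h.q_op ha
  have hp := h.pair ha
  -- the coefficient at `a` can be kept alone
  have step1 : ∀ y : ι → F, (∀ k ∉ S, y k = 0) → Q y = 0 → y a ≠ 0 →
      ∃ k ∈ rootGroup h ⊓ fixOut Q S, act k y = y a • bv a := by
    intro y hyS hQy hya
    set w := (-(y a)⁻¹) • proj Q (bv (op a)) (bv a) y with hw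
    have hwa : w a = 0 := by
      simp [hw, proj, bv, h.B_sing _ ha, h.B_sing _ ha', h.op_op, (h.op_ne ha).symm]
    have hwS : ∀ k ∉ S, w k = 0 := fun k hk => by
      have h1 : k ≠ a := fun e => hk (e ▸ haS)
      have h2 : k ≠ op a := fun e => hk (e ▸ hopa)
      simp [hw, proj, bv, hyS k hk, h1, h2]
    have hk := h.eich_mem_fix ha' hopa hS w (by rw [h.op_op]; exact hwa) hwS
    refine ⟨_, hk, ?_⟩
    have hB : B y (bv (op a)) = y a := by rw [h.B_sing _ ha', h.op_op]
    obtain ⟨A, hA, hA'⟩ := kill_pair (y := y) (w := w) hp.symm (by rw [hB]; exact hya)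
      (by rw [hB, hw]) (by rw [QuadraticMap.polar_comm, h.B_sing _ ha', h.op_op, hwa])
    rw [hB] at hA hA'
    rw [hA]
    rw [hQy, mul_eq_zero, or_iff_left hya] at hA'
    rw [hA', zero_smul, zero_add]
  -- a general vector is moved to one with a non-zero coefficient at `a`
  suffices ∃ k ∈ rootGroup h ⊓ fixOut Q S, act k z a ≠ 0 ∧ ∀ l ∉ S, act k z l = 0 by
    obtain ⟨k, hk, hka, hkS⟩ := this
    obtain ⟨k', hk', e⟩ := step1 _ hkS (by rw [act_map]; exact hQz) hka
    exact ⟨k' * k, mul_mem hk' hk, _, hka, by rw [act_mul, e]⟩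
  have step2 : ∀ y : ι → F, (∀ k ∉ S, y k = 0) → y a = 0 → y (op a) ≠ 0 →
      ∃ k ∈ rootGroup h ⊓ fixOut Q S, act k y a ≠ 0 ∧ ∀ l ∉ S, act k y l = 0 := by
    intro y hyS hya hyo
    -- first clear the part outside the pair
    set w := (-(y (op a))⁻¹) • proj Q (bv a) (bv (op a)) y with hw
    have hwa : w (op a) = 0 := by
      simp [hw, proj, bv, h.B_sing _ ha, h.B_sing _ ha', h.op_op, h.op_ne ha]
    have hwS : ∀ k ∉ S, w k = 0 := fun k hk => by
      have h1 : k ≠ a := fun e => hk (e ▸ haS)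
      have h2 : k ≠ op a := fun e => hk (e ▸ hopa)
      simp [hw, proj, bv, hyS k hk, h1, h2]
    have hk1 := h.eich_mem_fix ha haS hS w hwa hwS
    have hk2 := h.eich_mem_fix ha haS hS w0 hw0a' hw0S
    have hB : B y (bv a) = y (op a) := h.B_sing _ ha
    obtain ⟨A, hA, -⟩ := kill_pair (y := y) (w := w) hp (by rw [hB]; exact hyo)
      (by rw [hB, hw]) (by rw [QuadraticMap.polar_comm, h.B_sing _ ha, hwa])
    rw [hB] at hA
    by_cases hA0 : A = 0
    · refine ⟨_, mul_mem hk2 hk1, ?_⟩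
      rw [act_mul, hA, hA0, zero_smul, zero_add, map_smul, act_eich, h.B_sing _ ha,
        show B (bv (op a)) w0 = w0 a by rw [QuadraticMap.polar_comm, h.B_sing _ ha', h.op_op]]
      refine ⟨?_, fun l hl => ?_⟩
      · simp [bv, hw0a, (h.op_ne ha).symm, hyo, hw0]
      · have h1 : l ≠ a := fun e => hl (e ▸ haS)
        have h2 : l ≠ op a := fun e => hl (e ▸ hopa)
        simp [bv, h1, h2, hw0S l hl]
    · refine ⟨_, hk1, ?_⟩
      rw [hA]
      refine ⟨by simp [bv, (h.op_ne ha).symm, hA0], fun l hl => ?_⟩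
      have h1 : l ≠ a := fun e => hl (e ▸ haS)
      have h2 : l ≠ op a := fun e => hl (e ▸ hopa)
      simp [bv, h1, h2]
  by_cases hza : z a = 0
  swap
  · exact ⟨1, one_mem _, by rwa [act_one], fun l hl => by rw [act_one]; exact hzS l hl⟩
  by_cases hzo : z (op a) = 0
  swap
  · exact step2 z hzS hza hzo
  -- some other singular coordinate is non-zero
  obtain ⟨l, hl, hl0⟩ : ∃ l, q l = 0 ∧ z l ≠ 0 := by
    by_contra hcon
    simp only [not_exists, not_and, not_not] at hcon
    obtain ⟨o, ho⟩ : ∃ o, z o ≠ 0 := Function.ne_iff.1 hz0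
    have hqo : q o = 1 := (h.q01 o).resolve_left fun e => ho (hcon o e)
    have hz : z = z o • (bv o : ι → F) := by
      funext i
      by_cases hi : i = o
      · subst hi; simp [bv]
      · simp only [bv, Pi.smul_apply, Pi.single_eq_of_ne hi, smul_zero]
        exact hcon i ((h.q01 i).resolve_right fun e => hi (h.uniq _ _ e hqo))
    rw [hz, map_smul', h.hQ, hqo, Nat.cast_one, mul_one, mul_self_eq_zero] at hQz
    exact ho hQz
  have hlS : l ∈ S := by
    by_contra hl'
    exact hl0 (hzS l hl')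
  have hla : l ≠ a := fun e => hl0 (e ▸ hza)
  have hlo : l ≠ op a := fun e => hl0 (e ▸ hzo)
  have hwa : (bv (op l) : ι → F) a = 0 := by
    have : a ≠ op l := fun e => hlo (by rw [e, h.op_op])
    simp [bv, this]
  have hk3 := h.eich_mem_fix ha' hopa hS (bv (op l)) (by rw [h.op_op]; exact hwa)
    (fun k hk => by simp [bv, show k ≠ op l from fun e => hk (e ▸ hS l hlS)])
  obtain ⟨y, hy⟩ : ∃ y, y = z - z l • (bv (op a) : ι → F) := ⟨_, rfl⟩
  have hact : act (eich (bv (op a)) (bv (op l)) (h.Q_bv ha')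
      (by rw [QuadraticMap.polar_comm, h.B_sing _ ha', h.op_op, hwa])) z = y := by
    rw [act_eich, h.B_sing _ ha', h.op_op, hza, h.B_sing _ (h.q_op hl), h.op_op, hy]
    module
  obtain ⟨k, hk, hk1, hk2⟩ := step2 y
    (fun k hk => by simp [hy, bv, hzS k hk, show k ≠ op a from fun e => hk (e ▸ hopa)])
    (by simp [hy, bv, hza, (h.op_ne ha).symm]) (by simp [hy, bv, hzo, hl0])
  exact ⟨_, mul_mem hk hk3, by rw [act_mul, hact]; exact hk1,
    by rw [act_mul, hact]; exact hk2⟩

/-- One step of the elimination. -/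
theorem peel {S : Finset ι} (hS : ∀ k ∈ S, op k ∈ S) (hfix : ∀ k, q k = 1 → k ∈ S) {a b : ι}
    (ha : q a = 0) (haS : a ∈ S) (hbS : b ∈ S) (hba : b ≠ a) (hbop : b ≠ op a) {g : Iso}
    (hg : g ∈ fixOut Q S) :
    ∃ k ∈ rootGroup h, ∃ c : F, c ≠ 0 ∧ ∃ k' ∈ rootGroup h,
      k * dia Q op a c * k' * g ∈ fixOut Q ((S.erase a).erase (op a)) := by
  have hopa := hS a haS
  have hbvS : ∀ k ∉ S, (bv a : ι → F) k = 0 := fun k hk => by
    simp [bv, show k ≠ a from fun e => hk (e ▸ haS)]
  obtain ⟨k, hk, c, hc, hkc⟩ := h.move_line hS ha haS hbS hba hbop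
    (h.supp_act hS hfix hg hbvS) (fun e => by
      have := congrArg (act g⁻¹) e
      rw [Spinor.act_inv_cancel, map_zero] at this
      exact absurd (congrFun this a) (by simp [bv]))
    (by rw [act_map]; exact h.Q_bv ha)
  obtain ⟨g₁, hg₁⟩ : ∃ g₁ : Iso, g₁ = dia Q op a c⁻¹ * k * g := ⟨_, rfl⟩
  have hg₁S : g₁ ∈ fixOut Q S :=
    hg₁ ▸ mul_mem (mul_mem (h.dia_fixOut ha (inv_ne_zero hc) haS hS) (Subgroup.mem_inf.1 hk).2) hg
  have hg₁a : act g₁ (bv a) = bv a := by
    rw [hg₁, act_mul, act_mul, hkc, map_smul, (h.act_dia ha (inv_ne_zero hc)).1, smul_smul,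
      mul_inv_cancel₀ hc, one_smul]
  obtain ⟨y, hy⟩ : ∃ y, y = act g₁ (bv (op a)) := ⟨_, rfl⟩
  have hyS : ∀ l ∉ S, y l = 0 := hy ▸ h.supp_act hS hfix hg₁S
    (fun l hl => by simp [bv, show l ≠ op a from fun e => hl (e ▸ hopa)])
  have hyB : B y (bv a) = 1 := by
    rw [← hg₁a, hy, act_polar, QuadraticMap.polar_comm, h.B_op ha]
  set w := (-1 : F) • proj Q (bv a) (bv (op a)) y with hw
  have hwa : w (op a) = 0 := by
    simp [hw, proj, bv, h.B_sing _ ha, h.B_sing _ (h.q_op ha), h.op_op, h.op_ne ha]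
  have hwS : ∀ l ∉ S, w l = 0 := fun l hl => by
    have h1 : l ≠ a := fun e => hl (e ▸ haS)
    have h2 : l ≠ op a := fun e => hl (e ▸ hopa)
    simp [hw, proj, bv, hyS l hl, h1, h2]
  have hk' := h.eich_mem_fix ha haS hS w hwa hwS
  obtain ⟨E, hE⟩ : ∃ E : Iso, E = eich (bv a) w (h.Q_bv ha)
      (by rw [QuadraticMap.polar_comm, h.B_sing _ ha, hwa]) := ⟨_, rfl⟩
  rw [← hE] at hk'
  obtain ⟨A, hA, -⟩ := kill_pair (y := y) (w := w) (h.pair ha) (by rw [hyB]; exact one_ne_zero)
    (by rw [hyB, hw, inv_one]) (by rw [QuadraticMap.polar_comm, h.B_sing _ ha, hwa])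
  rw [hyB, ← hE] at hA
  have hA0 : A = 0 := by
    have := act_map E y
    rw [hA, pair_value (h.pair ha), mul_one, hy, act_map, h.Q_bv (h.q_op ha)] at this
    exact this
  refine ⟨E, (Subgroup.mem_inf.1 hk').1, c⁻¹, inv_ne_zero hc, k, (Subgroup.mem_inf.1 hk).1,
    fun l hl => ?_⟩
  rw [show E * dia Q op a c⁻¹ * k * g = E * g₁ by rw [hg₁]; group]
  by_cases h1 : l = a
  · subst h1; rw [act_mul, hg₁a, hE, act_eich_self]
  by_cases h2 : l = op a
  · subst h2; rw [act_mul, ← hy, hA, hA0, zero_smul, zero_add, one_smul]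
  · exact mul_mem (Subgroup.mem_inf.1 hk').2 hg₁S l
      fun e => hl (Finset.mem_erase.2 ⟨h2, Finset.mem_erase.2 ⟨h1, e⟩⟩)

theorem reduce_aux : ∀ (L : List ι) (S : Finset ι), (∀ k ∈ S, op k ∈ S) →
    (∀ k, q k = 1 → k ∈ S) → goodList op q S L = true → ∀ g ∈ fixOut Q S,
    ∃ x ∈ rootGroup h ⊔ Subgroup.closure {g | ∃ (a : ι) (t : F), q a = 0 ∧ t ≠ 0 ∧ g = dia Q op a t},
      x * g ∈ fixOut Q (L.foldl (fun S a => (S.erase a).erase (op a)) S)
  | [], S, _, _, _, g, hg => ⟨1, one_mem _, by rw [one_mul]; exact hg⟩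
  | a :: L, S, hS, hfix, hgood, g, hg => by
    rw [goodList, Bool.and_eq_true, decide_eq_true_eq] at hgood
    obtain ⟨⟨ha, haS, b, hbS, hba, hbop⟩, hrest⟩ := hgood
    obtain ⟨k, hk, c, hc, k', hk', hg'⟩ := h.peel hS hfix ha haS hbS hba hbop hg
    have hS' : ∀ l ∈ (S.erase a).erase (op a), op l ∈ (S.erase a).erase (op a) := by
      intro l hl
      simp only [Finset.mem_erase] at hl ⊢
      refine ⟨fun e => hl.2.1 ?_, fun e => hl.1 ?_, hS l hl.2.2⟩
      · have := congrArg op e; rwa [h.op_op, h.op_op] at this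
      · rw [← e, h.op_op]
    have hfix' : ∀ l, q l = 1 → l ∈ (S.erase a).erase (op a) := fun l hl => by
      simp only [Finset.mem_erase]
      refine ⟨fun e => ?_, fun e => ?_, hfix l hl⟩
      · subst e; rw [h.q_op ha] at hl; omega
      · subst e; omega
    obtain ⟨x, hx, hx'⟩ := reduce_aux L _ hS' hfix' hrest _ hg'
    refine ⟨x * (k * dia Q op a c * k'), mul_mem hx (mul_mem (mul_mem (Subgroup.mem_sup_left hk)
      (Subgroup.mem_sup_right (Subgroup.subset_closure ⟨a, c, ha, hc, rfl⟩)))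
      (Subgroup.mem_sup_left hk')), ?_⟩
    rw [List.foldl_cons, mul_assoc]
    exact hx'

end Split

end Cfsg.Agent.Chevalley.Natural
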