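import Mathlib

/-!
Sparse matrices whose entries are monomials with integer coefficients in two parameters, for checking
matrix identities by the kernel.
-/

set_option autoImplicit false

namespace Cfsg.Agent.Chevalley.Natural

open Matrix

variable {ι : Type} [DecidableEq ι]

/-- One term: exponents, row, column, coefficient. -/
structure Term (ι : Type) where
  i : ℕ
  j : ℕ
  row : ι
  col : ι
  z : ℤ

section Eval

variable {F : Type*} [Field F]

/-- The value of one term. -/
def term1 (t u : F) (a : Term ι) : Matrix ι ι F :=
  Matrix.single a.row a.col ((a.z : F) * t ^ a.i * u ^ a.j)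

/-- The value of a list of terms. -/
def ev (t u : F) (L : List (Term ι)) : Matrix ι ι F := (L.map (term1 t u)).sum

theorem ev_nil (t u : F) : ev t u ([] : List (Term ι)) = 0 := rfl

theorem ev_cons (t u : F) (a : Term ι) (L : List (Term ι)) :
    ev t u (a :: L) = term1 t u a + ev t u L := by simp [ev]

theorem ev_append (t u : F) (L M : List (Term ι)) : ev t u (L ++ M) = ev t u L + ev t u M := by
  simp [ev]

end Eval

/-- Equality of keys. -/
def sameKey (a b : Term ι) : Bool :=
  Nat.beq a.i b.i && (Nat.beq a.j b.j && (decide (a.row = b.row) && decide (a.col = b.col)))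

/-- Insertion with collection of coefficients. -/
def ins (a : Term ι) : List (Term ι) → List (Term ι)
  | [] => [a]
  | b :: L => bif sameKey a b then ⟨b.i, b.j, b.row, b.col, a.z + b.z⟩ :: L else b :: ins a L

/-- The collected form. -/
def norm (L : List (Term ι)) : List (Term ι) := L.foldr ins []

/-- The product of two terms. -/
def mulT (a b : Term ι) : List (Term ι) :=
  bif decide (a.col = b.row) then [⟨a.i + b.i, a.j + b.j, a.row, b.col, a.z * b.z⟩] else []

/-- The product of two lists. -/
def mulL (L M : List (Term ι)) : List (Term ι) :=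
  norm (L.flatMap fun a => M.flatMap (mulT a))

/-- The negative. -/
def negL (L : List (Term ι)) : List (Term ι) := L.map fun a => ⟨a.i, a.j, a.row, a.col, -a.z⟩

/-- Equality test. -/
def eqL (L M : List (Term ι)) : Bool := (norm (L ++ negL M)).all fun a => decide (a.z = 0)

/-- Cancellation of the two parameters when their product is one. -/
def redL (L : List (Term ι)) : List (Term ι) :=
  L.map fun a => ⟨a.i - min a.i a.j, a.j - min a.i a.j, a.row, a.col, a.z⟩

section Eval

variable {F : Type*} [Field F]

theorem ev_ins (t u : F) (a : Term ι) : ∀ L : List (Term ι),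
    ev t u (ins a L) = term1 t u a + ev t u L
  | [] => by simp [ins, ev]
  | b :: L => by
    rw [ins]
    cases h : sameKey a b
    · simp only [cond_false]
      rw [ev_cons, ev_cons, ev_ins t u a L, add_left_comm]
    · simp only [cond_true]
      simp only [sameKey, Bool.and_eq_true, Nat.beq_eq, decide_eq_true_eq] at h
      rw [ev_cons, ev_cons, ← add_assoc]
      congr 1
      simp only [term1, h.1, h.2.1, h.2.2.1, h.2.2.2]
      rw [← Matrix.single_add]
      congr 1
      push_cast
      ring

theorem ev_norm (t u : F) (L : List (Term ι)) : ev t u (norm L) = ev t u L := by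
  induction L with
  | nil => rfl
  | cons a L ih => rw [norm, List.foldr_cons, ← norm, ev_ins, ih, ev_cons]

theorem ev_negL (t u : F) (L : List (Term ι)) : ev t u (negL L) = - ev t u L := by
  induction L with
  | nil => simp [negL, ev]
  | cons a L ih =>
    rw [negL, List.map_cons, ← negL, ev_cons, ev_cons, ih, neg_add]
    congr 1
    ext x y
    simp only [term1, Int.cast_neg, neg_mul, Matrix.neg_apply, Matrix.single_apply]
    split_ifs <;> simp

theorem ev_eq_of_eqL {L M : List (Term ι)} (h : eqL L M = true) (t u : F) :
    ev t u L = ev t u M := by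
  have h0 : ev t u (norm (L ++ negL M)) = 0 := by
    refine List.sum_eq_zero fun x hx => ?_
    obtain ⟨a, ha, rfl⟩ := List.mem_map.1 hx
    have := List.all_eq_true.1 h a ha
    rw [decide_eq_true_eq] at this
    simp [term1, this]
  rwa [ev_norm, ev_append, ev_negL, ← sub_eq_add_neg, sub_eq_zero] at h0

theorem ev_redL {t u : F} (h : t * u = 1) (L : List (Term ι)) : ev t u (redL L) = ev t u L := by
  induction L with
  | nil => rfl
  | cons a L ih =>
    rw [redL, List.map_cons, ← redL, ev_cons, ev_cons, ih]
    congr 1
    obtain ⟨i', hi⟩ : ∃ k, a.i = k + min a.i a.j := ⟨a.i - min a.i a.j, by omega⟩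
    obtain ⟨j', hj⟩ : ∃ k, a.j = k + min a.i a.j := ⟨a.j - min a.i a.j, by omega⟩
    simp only [term1]
    congr 1
    generalize min a.i a.j = m at hi hj ⊢
    rw [hi, hj, Nat.add_sub_cancel, Nat.add_sub_cancel, pow_add, pow_add]
    have : t ^ m * u ^ m = 1 := by rw [← mul_pow, h, one_pow]
    linear_combination (-((a.z : F) * t ^ i' * u ^ j')) * this

variable [Fintype ι]

theorem term1_mul (t u : F) (a b : Term ι) : term1 t u a * term1 t u b = ev t u (mulT a b) := by
  by_cases h : a.col = b.row
  · have e : mulT a b = [⟨a.i + b.i, a.j + b.j, a.row, b.col, a.z * b.z⟩] := by simp [mulT, h]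
    rw [e, ev_cons, ev_nil, add_zero]
    simp only [term1, h, Matrix.single_mul_single_same]
    congr 1
    push_cast
    ring
  · have e : mulT a b = [] := by simp [mulT, h]
    rw [e, ev_nil]
    exact Matrix.single_mul_single_of_ne _ _ _ _ h _

theorem ev_mulL (t u : F) (L M : List (Term ι)) : ev t u (mulL L M) = ev t u L * ev t u M := by
  rw [mulL, ev_norm]
  induction L with
  | nil => simp [ev]
  | cons a L ih =>
    rw [List.flatMap_cons, ev_append, ih, ev_cons, add_mul]
    congr 1
    clear ih
    induction M with
    | nil => simp [ev]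
    | cons b M ih' =>
      rw [List.flatMap_cons, ev_append, ev_cons, mul_add, term1_mul, ih']

end Eval

/-- The identity matrix on an enumerated index set. -/
def oneL (idx : List ι) : List (Term ι) := idx.map fun k => ⟨0, 0, k, k, 1⟩

theorem ev_oneL [Fintype ι] {F : Type*} [Field F] {idx : List ι} (hd : idx.Nodup) (hc : ∀ k, k ∈ idx)
    (t u : F) : ev t u (oneL idx) = 1 := by
  have : ev t u (oneL idx) = (idx.map fun k => Matrix.single k k (1 : F)).sum := by
    simp [ev, oneL, term1, List.map_map, Function.comp_def]
  rw [this, ← List.sum_toFinset _ hd,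
    show idx.toFinset = Finset.univ from Finset.eq_univ_iff_forall.2 fun k => List.mem_toFinset.2 (hc k)]
  ext x y
  rw [Matrix.sum_apply, Matrix.one_apply]
  simp only [Matrix.single_apply]
  by_cases h : x = y
  · subst h
    simp
  · rw [if_neg h]
    refine Finset.sum_eq_zero fun k _ => ?_
    rw [if_neg]
    rintro ⟨rfl, rfl⟩
    exact h rfl

end Cfsg.Agent.Chevalley.Natural
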