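import Cfsg.Agent.Lib.Chevalley.Natural.Hom
import Cfsg.Agent.Lib.Chevalley.Types.SimpleB2
import Cfsg.Agent.Lib.Chevalley.Types.StCerts
import Cfsg.Agent.Lib.Classical.OrthForms

/-! The natural representation of type B2. -/

set_option autoImplicit false

namespace Cfsg.Agent.Chevalley.Natural.TypeB2

open Cfsg.Lie Cfsg.Agent.Classical.OrthForms Cfsg.Agent.Forms.PlusStd
open Cfsg.Agent.Classical.Orth Cfsg.Agent.Forms Cfsg.Agent.Forms.Reflections
open scoped commutatorElement

/-- The index set. -/
abbrev I : Type := Unit ⊕ (Fin 2 ⊕ Fin 2)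

/-- The data. -/
def data : RData I where
  idx := [Sum.inl (), Sum.inr (Sum.inl 0), Sum.inr (Sum.inl 1), Sum.inr (Sum.inr 0), Sum.inr (Sum.inr 1)]
  op := Sum.map id Sum.swap
  q := Sum.elim (fun _ => 1) (fun _ => 0)
  rd := fun r => ([(Sum.inr (Sum.inr 0), Sum.inr (Sum.inr 1), -1), (Sum.inr (Sum.inr 0), Sum.inl (), 1),
    (Sum.inr (Sum.inr 1), Sum.inl (), -1), (Sum.inr (Sum.inr 0), Sum.inr (Sum.inl 1), -1),
    (Sum.inr (Sum.inl 0), Sum.inr (Sum.inr 1), 1), (Sum.inr (Sum.inl 1), Sum.inl (), 1),
    (Sum.inr (Sum.inl 0), Sum.inl (), -1), (Sum.inr (Sum.inl 0), Sum.inr (Sum.inl 1), 1)] :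
    List (I × I × ℤ)).getD r (Sum.inl (), Sum.inl (), 0)

theorem roots_ok : data.rootsOk 8 = true := by decide +kernel
theorem comm_ok : data.commOk chevB2 = true := by decide +kernel
theorem toral_ok : data.toralOk chevB2 = true := by decide +kernel
theorem cover_ok : data.coverOk 8 = true := by decide +kernel
theorem nc_ok : data.ncOk 5 4 (Sum.inl ()) (Sum.inr (Sum.inr 0)) = true := by decide +kernel
theorem good_ok : goodList data.op data.q Finset.univ [Sum.inr (Sum.inl 0), Sum.inr (Sum.inl 1)] = true := by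
  decide +kernel
theorem rest_ok : rest data.op [Sum.inr (Sum.inl 0), Sum.inr (Sum.inl 1)] =
    ({Sum.inl ()} : Finset I) := by decide +kernel

theorem certs : Certs data chevB2 :=
  ⟨by decide, fun k => by rcases k with i | i | i <;> fin_cases i <;> simp [data],
    roots_ok, comm_ok, toral_ok, cover_ok⟩

theorem split (F : Type*) [Field F] : Split (oddQ F 2) data.op data.q where
  op_op a := by rcases a with i | i | i <;> rfl
  q01 a := by rcases a with i | i | i <;> simp [data]
  op_fix a := by rcases a with i | i | i <;> simp [data]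
  uniq a b h h' := by
    rcases a with i | i | i <;> rcases b with j | j | j <;> first | rfl | simp [data] at h h'
  hQ a := by
    rw [oddQ_apply, plusQ_apply]
    rcases a with i | i | i <;>
      simp [data, Cfsg.quadFormPlus, Pi.single_apply, Function.comp_def]
  hB a b := by
    rw [oddQ_polar, plusQ_polar]
    rcases a with i | i | i <;> rcases b with j | j | j <;>
      simp [data, Pi.single_apply, Function.comp_def] <;> norm_num

theorem el_commutator (F : Type*) [Field F] (l : F) (hl0 : l ≠ 0) (hl1 : l ≠ 1) (a b : I) (t : F) :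
    el (split F) a b t ∈ commutator (Cfsg.isometryGroup F ⇑(oddQ F 2)) := by
  have h := split F
  by_cases hh : data.q a = 0 ∧ b ≠ data.op a
  swap
  · rw [el, dif_neg hh]; exact one_mem _
  obtain ⟨ha, hb⟩ := hh
  have key : ∀ u : F, b ≠ a → dia (oddQ F 2) data.op a l * el h a b u * (dia (oddQ F 2) data.op a l)⁻¹ =
      el h a b (l * u) := by
    intro u hba
    rw [h.el_eq ha hb, eich_conj]
    have e1 : act (dia (oddQ F 2) data.op a l) (u • bv b) = u • bv b := by
      rw [map_smul, (h.act_dia ha hl0).2.2 b hba hb]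
    simp only [(h.act_dia ha hl0).1, e1]
    rw [eich_smul l _ _ (h.Q_bv ha)
      (by rw [smul_smul, QuadraticMap.polar_smul_right, h.B_ne hb, smul_zero]),
      eich_congr (smul_smul l u (bv b : I → F)), ← h.el_eq ha hb]
  rcases eq_or_ne b a with rfl | hba
  · rw [h.el_eq ha hb]
    have : eich (bv b) (t • bv b) (h.Q_bv ha)
        (by rw [QuadraticMap.polar_smul_right, h.B_ne hb, smul_zero]) = 1 := by
      rw [eich_congr (show t • (bv b : I → F) = 0 + t • bv b by rw [zero_add]),
        eich_add_self t (h.Q_bv ha) (QuadraticMap.polar_zero_right _ _), eich_zero_right]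
    rw [this]; exact one_mem _
  obtain ⟨u, hu⟩ : ∃ u, u = t / (l - 1) := ⟨_, rfl⟩
  have e : el h a b t = ⁅dia (oddQ F 2) data.op a l, el h a b u⁆ := by
    rw [commutatorElement_def, key u hba]
    have hinv : (el h a b u)⁻¹ = el h a b (-u) := by
      refine inv_eq_of_mul_eq_one_right ?_
      rw [← h.el_add, add_neg_cancel]
      have := h.el_add a b 0 0
      rw [add_zero] at this
      exact right_eq_mul.1 this
    rw [hinv, ← h.el_add]
    congr 1
    rw [hu]
    field_simp [sub_ne_zero.2 hl1]
    ring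
  rw [e]
  exact Subgroup.commutator_mem_commutator (Subgroup.mem_top _) (Subgroup.mem_top _)

theorem nonempty_iso (F : Type*) [Field F] (hF : ∃ a : F, a ≠ 0 ∧ a ≠ 1) :
    Nonempty (chevB2.group F ≃* Cfsg.POmega F (Cfsg.quadFormOdd 2 F)) := by
  have h := split F
  rw [← oddQ_eq]
  refine nonempty_pomega h certs Types.B2.certified ⟨⟨_, Types.CoefB2.coef_ok⟩, ⟨_, Types.StCerts.conj_B2⟩⟩
    (Types.SimpleB2.simple_group F hF).1 (le_antisymm ?_ ((Subgroup.closure_le _).2 ?_))
    (r := 5) (s := 4) (by decide) (by decide) nc_ok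
  · have ho : data.q (Sum.inl ()) = 1 := rfl
    refine h.commutator_le good_ok (τ := QuadStd.reflect (oddQ F 2) (bv (Sum.inl ())))
      (h.mono_reflect_of_fix ho) (reflect_sq _) (fun g hg => ?_) fun a t ha ht => ?_
    · rw [rest_ok] at hg
      rcases h.base_line ho hg with rfl | rfl
      · exact one_mem _
      · exact Subgroup.subset_closure (Or.inr rfl)
    · rw [commutatorElement_eq_one_iff_commute.2 (h.reflect_dia_comm ho ha ht)]
      exact one_mem _
  · obtain ⟨l, hl0, hl1⟩ := hF
    rintro _ ⟨a, b, t, rfl⟩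
    exact el_commutator F l hl0 hl1 a b t

end Cfsg.Agent.Chevalley.Natural.TypeB2
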